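import Cfsg.Agent.Lib.IndexFour.Setting
import Cfsg.Agent.Lib.Transfer.Fusion

/-!
# Fusion for a Sylow 2-subgroup with centre of index four

Fusion is generated by `N(S)` and the normalisers of the three maximal abelian subgroups
(`Quad.rel_of_local`); the focal subgroup of a simple group is read off from this (`eq_top_of_rel`).
-/

set_option autoImplicit false
set_option linter.unusedSectionVars false

namespace Cfsg.Agent.IndexFour

open Subgroup

variable {G : Type*} [Group G] [Finite G]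

/-- Inside `M`, a subgroup of the order of the Sylow subgroup `S ≤ M` is moved into `S`. -/
theorem exists_conj_into (S : Sylow 2 G) {M T : Subgroup G} (hS : (S : Subgroup G) ≤ M) (hT : T ≤ M)
    (hcard : Nat.card T = Nat.card (S : Subgroup G)) :
    ∃ k ∈ M, ∀ z ∈ T, k * z * k⁻¹ ∈ (S : Subgroup G) := by
  haveI : Fact (Nat.Prime 2) := ⟨Nat.prime_two⟩
  have hfac : (Nat.card M).factorization 2 = (Nat.card G).factorization 2 := by
    refine le_antisymm ?_ ?_
    · exact (Nat.factorization_le_iff_dvd Nat.card_pos.ne' Nat.card_pos.ne').2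
        (card_subgroup_dvd_card M) 2
    · refine (Nat.prime_two.pow_dvd_iff_le_factorization Nat.card_pos.ne').1 ?_
      rw [← S.card_eq_multiplicity]
      exact Subgroup.card_dvd_of_le hS
  have hcS : Nat.card ((S : Subgroup G).subgroupOf M) = 2 ^ (Nat.card M).factorization 2 := by
    rw [Nat.card_congr (subgroupOfEquivOfLe hS).toEquiv, S.card_eq_multiplicity, hfac]
  have hcT' : Nat.card (T.subgroupOf M) = 2 ^ (Nat.card M).factorization 2 := by
    rw [Nat.card_congr (subgroupOfEquivOfLe hT).toEquiv, hcard, S.card_eq_multiplicity, hfac]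
  obtain ⟨k, hk⟩ := MulAction.exists_smul_eq M (Sylow.ofCard _ hcT') (Sylow.ofCard _ hcS)
  refine ⟨k, k.2, fun z hz => ?_⟩
  have h1 : k * ⟨z, hT hz⟩ * k⁻¹ ∈ ((k • Sylow.ofCard _ hcT' : Sylow 2 M) : Subgroup M) := by
    rw [Sylow.coe_subgroup_smul, Sylow.coe_ofCard]
    exact ⟨⟨z, hT hz⟩, mem_subgroupOf.2 hz, rfl⟩
  rw [hk, Sylow.coe_ofCard] at h1
  exact mem_subgroupOf.1 h1

/-- In a perfect group the Sylow subgroup is its focal subgroup. -/
theorem le_of_rel (hG : commutator G = ⊤) (S : Sylow 2 G) (T : Subgroup G)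
    (h : ∀ x ∈ (S : Subgroup G), ∀ g : G, g * x * g⁻¹ ∈ (S : Subgroup G) → x⁻¹ * (g * x * g⁻¹) ∈ T) :
    (S : Subgroup G) ≤ T := by
  haveI : Fact (Nat.Prime 2) := ⟨Nat.prime_two⟩
  have hf := Transfer.commutator_inf_eq_focalSubgroup_of_coprime (S : Subgroup G)
    (Transfer.coprime_index_of_coprime_card (Transfer.sylow_coprime S))
  rw [hG, top_inf_eq] at hf
  rw [hf, focalSubgroup_def, closure_le]
  rintro _ ⟨hz, x, hx, u, rfl⟩
  have hy : u * x⁻¹ * u⁻¹ ∈ (S : Subgroup G) := by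
    have h1 := mul_mem (inv_mem hx) hz
    simpa [commutatorElement_def, mul_assoc] using h1
  have := h x⁻¹ (inv_mem hx) u hy
  simpa [commutatorElement_def, mul_assoc] using this

namespace Quad

variable {S : Sylow 2 G} {c : G} (h : Quad (S : Subgroup G) c)
include h

theorem card_sylow {a : G} (ha : a ∈ (S : Subgroup G)) (ha' : a ∉ Zs (S : Subgroup G)) :
    Nat.card (S : Subgroup G) = 2 * Nat.card (Cs (S : Subgroup G) a) := by
  rw [h.card, card_cs h.card ha ha']; ring

/-- A noncentral element whose centraliser contains a full Sylow 2-subgroup is moved into the centre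
by the normaliser of its maximal abelian subgroup. -/
theorem exists_central_image {x : G} (hx : x ∈ (S : Subgroup G)) (hx' : x ∉ Zs (S : Subgroup G))
    (hd : Nat.card (S : Subgroup G) ∣ Nat.card (centralizer ({x} : Set G))) :
    ∃ m ∈ normalizer (Cs (S : Subgroup G) x : Set G), m * x * m⁻¹ ∈ Zs (S : Subgroup G) := by
  haveI : Fact (Nat.Prime 2) := ⟨Nat.prime_two⟩
  set A := Cs (S : Subgroup G) x with hA
  set C := centralizer ({x} : Set G) with hC
  have hAC : A ≤ C := inf_le_right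
  obtain ⟨T, hT⟩ := ((S.2.to_le cs_le : IsPGroup 2 A).comap_subtype (K := C)).exists_le_sylow
  set T' := (T : Subgroup C).map C.subtype with hT'
  have hcT : Nat.card T' = Nat.card (S : Subgroup G) := by
    rw [card_map_of_injective C.subtype_injective, T.card_eq_multiplicity, S.card_eq_multiplicity]
    congr 1
    refine le_antisymm ((Nat.factorization_le_iff_dvd Nat.card_pos.ne' Nat.card_pos.ne').2
      (card_subgroup_dvd_card C) 2) ?_
    refine (Nat.prime_two.pow_dvd_iff_le_factorization Nat.card_pos.ne').1 ?_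
    rwa [← S.card_eq_multiplicity]
  have hAT : A ≤ T' := fun y hy => ⟨⟨y, hAC hy⟩, hT hy, rfl⟩
  have hidx : (A.subgroupOf T').index = 2 := by
    have e := Subgroup.card_mul_index (A.subgroupOf T')
    rw [Nat.card_congr (subgroupOfEquivOfLe hAT).toEquiv, hcT, h.card_sylow hx hx', mul_comm 2] at e
    exact mul_left_cancel₀ Nat.card_pos.ne' e
  have hTN : T' ≤ normalizer (A : Set G) := fun t ht => mem_normalizer_of_forall fun y hy => by
    have := (Subgroup.normal_of_index_eq_two hidx).conj_mem ⟨y, hAT hy⟩ (mem_subgroupOf.2 hy)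
      ⟨t, ht⟩
    exact mem_subgroupOf.1 this
  obtain ⟨m, hm, hmT⟩ := exists_conj_into S (le_normalizer_cs h.card hx hx') hTN hcT
  refine ⟨m, hm, mem_Zs.2 ⟨hmT x (hAT (mem_Cs.2 ⟨hx, rfl⟩)), fun y hy => ?_⟩⟩
  have hmap : T'.map (MulAut.conj m).toMonoidHom = (S : Subgroup G) :=
    eq_of_le_of_card_ge (by rintro _ ⟨t, ht, rfl⟩; exact hmT t ht)
      (by rw [card_map_of_injective (MulAut.conj m).injective, hcT])
  obtain ⟨t, ht, rfl⟩ : y ∈ T'.map (MulAut.conj m).toMonoidHom := hmap.symm ▸ hy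
  obtain ⟨⟨t', ht'⟩, -, rfl⟩ := ht
  show m * t' * m⁻¹ * (m * x * m⁻¹) = m * x * m⁻¹ * (m * t' * m⁻¹)
  rw [show m * t' * m⁻¹ * (m * x * m⁻¹) = m * (t' * x) * m⁻¹ by group,
    mem_centralizer_singleton_iff.1 ht']
  group

/-- A relation respected by `N(S)` and by the normalisers of the maximal abelian subgroups is
respected by fusion. -/
theorem rel_of_local (R : G → G → Prop) (hR : Equivalence R)
    (hN : ∀ n ∈ normalizer ((S : Subgroup G) : Set G), ∀ x ∈ (S : Subgroup G), R x (n * x * n⁻¹))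
    (hA : ∀ a ∈ (S : Subgroup G), a ∉ Zs (S : Subgroup G) →
      ∀ m ∈ normalizer (Cs (S : Subgroup G) a : Set G), ∀ x ∈ Cs (S : Subgroup G) a, R x (m * x * m⁻¹))
    {x g : G} (hx : x ∈ (S : Subgroup G)) (hgx : g * x * g⁻¹ ∈ (S : Subgroup G)) :
    R x (g * x * g⁻¹) := by
  haveI : Fact (Nat.Prime 2) := ⟨Nat.prime_two⟩
  -- two central elements
  have hZZ : ∀ x ∈ Zs (S : Subgroup G), ∀ g : G, g * x * g⁻¹ ∈ Zs (S : Subgroup G) →
      R x (g * x * g⁻¹) := by
    intro x hx g hgx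
    obtain ⟨n, hn, he⟩ := Transfer.exists_sylow_normalizer_conj_eq S {x} g
      (Set.singleton_subset_iff.2 hx.2) (by rintro _ rfl; exact hgx.2)
    rw [← he x rfl]
    exact hN n hn x hx.1
  -- reduce an element with large centraliser to a central one
  have hred : ∀ x ∈ (S : Subgroup G), x ∉ Zs (S : Subgroup G) →
      Nat.card (S : Subgroup G) ∣ Nat.card (centralizer ({x} : Set G)) →
      ∃ m : G, m * x * m⁻¹ ∈ Zs (S : Subgroup G) ∧ R x (m * x * m⁻¹) := fun x hx hx' hd => by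
    obtain ⟨m, hm, hmx⟩ := h.exists_central_image hx hx' hd
    exact ⟨m, hmx, hA x hx hx' m hm x (mem_Cs.2 ⟨hx, rfl⟩)⟩
  have hbig : ∀ {x y k : G}, k * x * k⁻¹ = y → x ∈ Zs (S : Subgroup G) →
      Nat.card (S : Subgroup G) ∣ Nat.card (centralizer ({y} : Set G)) := by
    rintro x _ k rfl hx
    rw [← card_map_of_injective (K := (S : Subgroup G)) (f := (MulAut.conj k).toMonoidHom) (MulAut.conj k).injective]
    refine Subgroup.card_dvd_of_le ?_
    rintro _ ⟨s, hs, rfl⟩
    refine mem_centralizer_singleton_iff.2 ?_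
    show k * s * k⁻¹ * (k * x * k⁻¹) = k * x * k⁻¹ * (k * s * k⁻¹)
    rw [show k * s * k⁻¹ * (k * x * k⁻¹) = k * (s * x) * k⁻¹ by group, (mem_Zs.1 hx).2 s hs]
    group
  -- a central element and any image
  have hZS : ∀ x ∈ Zs (S : Subgroup G), ∀ g : G, g * x * g⁻¹ ∈ (S : Subgroup G) →
      R x (g * x * g⁻¹) := by
    intro x hx g hgx
    by_cases hy : g * x * g⁻¹ ∈ Zs (S : Subgroup G)
    · exact hZZ x hx g hy
    obtain ⟨m, hm, hR'⟩ := hred _ hgx hy (hbig rfl hx)
    have e : m * (g * x * g⁻¹) * m⁻¹ = (m * g) * x * (m * g)⁻¹ := by group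
    rw [e] at hm
    exact hR.trans (hZZ x hx _ hm) (e ▸ hR.symm hR')
  by_cases hxZ : x ∈ Zs (S : Subgroup G)
  · exact hZS x hxZ g hgx
  by_cases hd : Nat.card (S : Subgroup G) ∣ Nat.card (centralizer ({x} : Set G))
  · obtain ⟨m, hm, hR'⟩ := hred x hx hxZ hd
    have e : (g * m⁻¹) * (m * x * m⁻¹) * (g * m⁻¹)⁻¹ = g * x * g⁻¹ := by group
    have h1 := hZS _ hm (g * m⁻¹) (by rw [e]; exact hgx)
    rw [e] at h1
    exact hR.trans hR' h1
  set y := g * x * g⁻¹ with hy
  have hyZ : y ∉ Zs (S : Subgroup G) := fun hz => hd (hbig (k := g⁻¹) (x := y) (by rw [hy]; group) hz)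
  set A := Cs (S : Subgroup G) x with hA'
  set A' := Cs (S : Subgroup G) y with hA''
  set C := centralizer ({x} : Set G) with hC
  set B := A'.map (MulAut.conj g⁻¹).toMonoidHom with hB
  have hBC : B ≤ C := by
    rintro _ ⟨b, hb, rfl⟩
    refine mem_centralizer_singleton_iff.2 ?_
    show g⁻¹ * b * g⁻¹⁻¹ * x = x * (g⁻¹ * b * g⁻¹⁻¹)
    calc g⁻¹ * b * g⁻¹⁻¹ * x = g⁻¹ * (b * y) * g := by rw [hy]; group
      _ = g⁻¹ * (y * b) * g := by rw [(mem_Cs.1 hb).2]
      _ = x * (g⁻¹ * b * g⁻¹⁻¹) := by rw [hy]; group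
  have hcA : Nat.card A' = Nat.card A := by
    rw [card_cs h.card hgx hyZ, card_cs h.card hx hxZ]
  have hcB : Nat.card B = Nat.card A := by
    rw [card_map_of_injective (MulAut.conj g⁻¹).injective, hcA]
  -- `A` is Sylow in the centraliser
  obtain ⟨j, hj⟩ : ∃ j, Nat.card A = 2 ^ j := (S.2.to_le cs_le).exists_card_eq
  have hfac : 2 ^ (Nat.card C).factorization 2 = Nat.card A := by
    have hle : j ≤ (Nat.card C).factorization 2 := by
      refine (Nat.prime_two.pow_dvd_iff_le_factorization Nat.card_pos.ne').1 ?_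
      rw [← hj]
      exact Subgroup.card_dvd_of_le inf_le_right
    have hlt : ¬ j + 1 ≤ (Nat.card C).factorization 2 := fun hc => hd (by
      rw [h.card_sylow hx hxZ, ← hA', hj, ← pow_succ']
      exact (Nat.prime_two.pow_dvd_iff_le_factorization Nat.card_pos.ne').2 hc)
    rw [hj, show (Nat.card C).factorization 2 = j by omega]
  have hcA1 : Nat.card (A.subgroupOf C) = 2 ^ (Nat.card C).factorization 2 := by
    rw [Nat.card_congr (subgroupOfEquivOfLe (show A ≤ C from inf_le_right)).toEquiv, hfac]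
  have hcB1 : Nat.card (B.subgroupOf C) = 2 ^ (Nat.card C).factorization 2 := by
    rw [Nat.card_congr (subgroupOfEquivOfLe hBC).toEquiv, hfac, hcB]
  obtain ⟨k, hk⟩ := MulAction.exists_smul_eq C (Sylow.ofCard _ hcA1) (Sylow.ofCard _ hcB1)
  set q := g * (k : G) with hq
  have hqA : ∀ z ∈ A, q * z * q⁻¹ ∈ A' := by
    intro z hz
    have h1 : k * ⟨z, (inf_le_right : A ≤ C) hz⟩ * k⁻¹ ∈
        ((k • Sylow.ofCard _ hcA1 : Sylow 2 C) : Subgroup C) := by
      rw [Sylow.coe_subgroup_smul, Sylow.coe_ofCard]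
      exact ⟨⟨z, (inf_le_right : A ≤ C) hz⟩, mem_subgroupOf.2 hz, rfl⟩
    rw [hk, Sylow.coe_ofCard] at h1
    obtain ⟨b, hb, e⟩ := mem_subgroupOf.1 h1
    have e' : g⁻¹ * b * g⁻¹⁻¹ = (k : G) * z * (k : G)⁻¹ := e
    rw [show q * z * q⁻¹ = g * ((k : G) * z * (k : G)⁻¹) * g⁻¹ by rw [hq]; group, ← e']
    simpa [mul_assoc] using hb
  have hqx : q * x * q⁻¹ = y := by
    calc q * x * q⁻¹ = g * ((k : G) * x * (k : G)⁻¹) * g⁻¹ := by rw [hq]; group
      _ = y := by rw [conj_eq_self_iff.2 (mem_centralizer_singleton_iff.1 k.2), hy]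
  set T := (S : Subgroup G).map (MulAut.conj q).toMonoidHom with hT
  have hTN : T ≤ normalizer (A' : Set G) := by
    rintro _ ⟨s, hs, rfl⟩
    refine mem_normalizer_of_forall fun b hb => ?_
    have hmap : A.map (MulAut.conj q).toMonoidHom = A' :=
      eq_of_le_of_card_ge (by rintro _ ⟨z, hz, rfl⟩; exact hqA z hz)
        (by rw [card_map_of_injective (MulAut.conj q).injective, hcA])
    obtain ⟨z, hz, rfl⟩ : b ∈ A.map (MulAut.conj q).toMonoidHom := hmap.symm ▸ hb
    show q * s * q⁻¹ * (q * z * q⁻¹) * (q * s * q⁻¹)⁻¹ ∈ A'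
    rw [show q * s * q⁻¹ * (q * z * q⁻¹) * (q * s * q⁻¹)⁻¹ = q * (s * z * s⁻¹) * q⁻¹ by group]
    exact hqA _ (conj_mem_of_mem_normalizer (le_normalizer_cs h.card hx hxZ hs) hz)
  obtain ⟨i, hi, hiT⟩ := exists_conj_into S (le_normalizer_cs h.card hgx hyZ) hTN
    (card_map_of_injective (MulAut.conj q).injective)
  have hn : i * q ∈ normalizer ((S : Subgroup G) : Set G) := mem_normalizer_of_forall fun s hs => by
    have := hiT _ ⟨s, hs, rfl⟩
    rwa [show i * (MulAut.conj q).toMonoidHom s * i⁻¹ = i * q * s * (i * q)⁻¹ by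
      show i * (q * s * q⁻¹) * i⁻¹ = _
      group] at this
  have e1 : i * q * x * (i * q)⁻¹ = i * y * i⁻¹ := by rw [← hqx]; group
  have h1 := hN _ hn x hx
  rw [e1] at h1
  exact hR.trans h1 (hR.symm (hA y hgx hyZ i hi y (mem_Cs.2 ⟨hgx, rfl⟩)))

end Quad

end Cfsg.Agent.IndexFour
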