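import Cfsg.Agent.Lib.IndexFour.Dihedral
import Cfsg.Agent.Lib.Coprime.AbelianMaschke
import Mathlib.Data.ZMod.Basic

/-!
# An abelian Sylow 2-subgroup with an invariant subgroup of index four

In a simple group with `DisjointClosed`, such a Sylow subgroup is a four group: the normaliser acts
irreducibly on the elements of order at most 2, so the subgroup is homocyclic of rank 2, and Brauer's
theorem excludes exponent above 2.
-/

set_option autoImplicit false
set_option linter.unusedSectionVars false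

namespace Cfsg.Agent.IndexFour

open Subgroup Cfsg
open scoped IsMulCommutative

variable {G : Type*} [Group G] [Finite G] [IsSimpleGroup G]

theorem card_eq_four (hG : ¬ IsMulCommutative G) (hPF : DisjointClosed G) (S : Sylow 2 G)
    (hab : IsMulCommutative (S : Subgroup G)) (R₀ : Subgroup G) (hR : R₀ ≤ (S : Subgroup G))
    (hRi : ∀ n ∈ normalizer ((S : Subgroup G) : Set G), ∀ r ∈ R₀, n * r * n⁻¹ ∈ R₀)
    (hR4 : Nat.card (S : Subgroup G) = 4 * Nat.card R₀) : Nat.card (S : Subgroup G) = 4 := by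
  classical
  haveI : Fact (Nat.Prime 2) := ⟨Nat.prime_two⟩
  haveI : IsMulCommutative (S : Subgroup G) := hab
  have hperf : commutator G = ⊤ := by
    rcases IsSimpleGroup.eq_bot_or_eq_top_of_normal (commutator G) inferInstance with e | e
    · refine absurd ⟨⟨fun a b => ?_⟩⟩ hG
      exact commutatorElement_eq_one_iff_mul_comm.1
        (mem_bot.1 (e ▸ commutator_mem_commutator (mem_top a) (mem_top b)))
    · exact e
  have heven : 2 ∣ Nat.card G :=
    (Dvd.dvd.trans ⟨2 * Nat.card R₀, by rw [hR4]; ring⟩ (card_subgroup_dvd_card _) : 2 ∣ Nat.card G)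
  let A : Type _ := ↥(S : Subgroup G)
  set N := normalizer ((S : Subgroup G) : Set G) with hN
  set X := (aut (S : Subgroup G)).range with hX
  have hXodd : (Nat.card X).Coprime 2 := by
    rw [Nat.coprime_comm, Nat.prime_two.coprime_iff_not_dvd]
    intro h2
    have hker : (S : Subgroup G).subgroupOf N ≤ (aut (S : Subgroup G)).ker := fun x hx => by
      refine MulEquiv.ext fun y => Subtype.ext ?_
      rw [aut_apply]
      exact conj_eq_self_iff.2
        (congrArg Subtype.val (mul_comm (⟨x, mem_subgroupOf.1 hx⟩ : A) y))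
    have h1 : Nat.card (S : Subgroup G) * 2 ∣ Nat.card N := by
      rw [← Subgroup.card_mul_index (aut (S : Subgroup G)).ker, index_ker]
      refine mul_dvd_mul ?_ h2
      have := Subgroup.card_dvd_of_le hker
      rwa [Nat.card_congr (subgroupOfEquivOfLe le_normalizer).toEquiv] at this
    have h3 := h1.trans (card_subgroup_dvd_card N)
    rw [← (S : Subgroup G).card_mul_index] at h3
    exact S.not_dvd_index ((mul_dvd_mul_iff_left Nat.card_pos.ne').1 h3)
  -- invariant subgroups are strongly closed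
  let Inv : Subgroup A → Prop := fun U => ∀ x ∈ X, ∀ a ∈ U, x a ∈ U
  have hfus : ∀ (a : A) (g : G), g * a * g⁻¹ ∈ (S : Subgroup G) →
      ∃ x ∈ X, ((x a : A) : G) = g * a * g⁻¹ := fun a g hg => by
    obtain ⟨n, hn, he⟩ := Transfer.controlsElementFusion_normalizer_of_isMulCommutative S hab
      (a : G) a.2 g hg
    exact ⟨aut (S : Subgroup G) ⟨n, hn⟩, ⟨_, rfl⟩, by rw [aut_apply]; exact he⟩
  have hclosed : ∀ U : Subgroup A, Inv U →
      IsStronglyClosed (U.map (S : Subgroup G).subtype) (S : Subgroup G) := fun U hU =>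
    ⟨map_subtype_le U, by
      rintro _ ⟨a, ha, rfl⟩ g hg
      obtain ⟨x, hx, e⟩ := hfus a g hg
      exact ⟨x a, hU x hx a ha, e⟩⟩
  set Ω := (powMonoidHom 2 : A →* A).ker with hΩ
  have hmemΩ : ∀ {a : A}, a ∈ Ω ↔ a ^ 2 = 1 := Iff.rfl
  have hirr : ∀ U : Subgroup A, Inv U → U ≤ Ω → U = ⊥ ∨ U = Ω := by
    intro U hU hUΩ
    obtain ⟨D, -, hDi, hDU, hDT⟩ := Coprime.exists_invariant_compl_elementary (p := 2) X hXodd
      (C := ⊥) (S := U) (T := Ω) bot_le hUΩ (fun t ht => mem_bot.2 (hmemΩ.1 ht))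
      (fun x _ a ha => by rw [mem_bot.1 ha, map_one]; exact one_mem _) hU
      (fun x _ a ha => hmemΩ.2 (by rw [← map_pow, hmemΩ.1 ha, map_one]))
    have hinj := (S : Subgroup G).subtype_injective
    have hdisj : U.map (S : Subgroup G).subtype ⊓ D.map (S : Subgroup G).subtype = ⊥ := by
      rw [← Subgroup.map_inf_eq _ _ _ hinj, inf_comm, hDU, Subgroup.map_bot]
    rcases hPF S _ _ (hclosed U hU) (hclosed D hDi)
      (by rintro _ ⟨a, -, rfl⟩ _ ⟨b, -, rfl⟩; exact congrArg Subtype.val (mul_comm a b)) hdisj with e | e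
    · exact Or.inl ((Subgroup.map_eq_bot_iff_of_injective _ hinj).1 e)
    · rw [(Subgroup.map_eq_bot_iff_of_injective _ hinj).1 e, bot_sup_eq] at hDT
      exact Or.inr hDT
  set R : Subgroup A := R₀.subgroupOf (S : Subgroup G) with hRdef
  have hRinv : Inv R := by
    rintro _ ⟨n, rfl⟩ a ha
    exact mem_subgroupOf.2 (hRi n n.2 a ha)
  have hRidx : R.index = 4 := by
    have e : Nat.card R * R.index = Nat.card (S : Subgroup G) := R.card_mul_index
    rw [hR4, Nat.card_congr (subgroupOfEquivOfLe hR).toEquiv, mul_comm 4] at e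
    exact mul_left_cancel₀ Nat.card_pos.ne' e
  -- no invariant subgroup strictly between `R` and `A`
  have hbetween : ∀ U : Subgroup A, Inv U → R ≤ U → U ≠ ⊤ → U = R := by
    intro U hU hRU hU'
    by_contra hne
    have h1 := Subgroup.relIndex_mul_index hRU
    rw [hRidx] at h1
    have h2 : U.index ∣ 4 := ⟨_, by rw [← h1, mul_comm]⟩
    have h3 : U.index ≠ 1 := fun e => hU' (index_eq_one.1 e)
    have h4 : U.index ≠ 4 := fun e => hne (le_antisymm (relIndex_eq_one.1 (by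
      rw [e] at h1; omega)) hRU)
    have hidx : U.index = 2 := by
      have := Nat.le_of_dvd (by norm_num) h2
      interval_cases U.index <;> simp_all
    have hall := le_of_rel hperf S (U.map (S : Subgroup G).subtype) fun x hx g hg => by
      obtain ⟨m, hm, e⟩ := hfus ⟨x, hx⟩ g hg
      refine ⟨(⟨x, hx⟩ : A)⁻¹ * m ⟨x, hx⟩, ?_, ?_⟩
      · refine (Subgroup.mul_mem_iff_of_index_two hidx).2 ⟨fun h => ?_, fun h => ?_⟩
        · exact hU m hm _ (inv_mem_iff.1 h)
        · have h' := hU m⁻¹ (inv_mem hm) _ h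
          rw [MulAut.inv_apply_self] at h'
          exact inv_mem h'
      · show x⁻¹ * ((m ⟨x, hx⟩ : A) : G) = _
        rw [e]
    refine hU' (eq_top_iff.2 fun a _ => ?_)
    obtain ⟨b, hb, e⟩ := hall a.2
    exact Subtype.ext e ▸ hb
  have hinvmap : ∀ (f : A →* A) (U : Subgroup A), (∀ x ∈ X, ∀ a, f (x a) = x (f a)) → Inv U →
      Inv (U.map f) := by
    rintro f U hf hU x hx _ ⟨a, ha, rfl⟩
    exact ⟨x a, hU x hx a ha, hf x hx a⟩
  have hpowcomm : ∀ (n : ℕ), ∀ x ∈ X, ∀ a, (powMonoidHom n : A →* A) (x a) = x (powMonoidHom n a) :=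
    fun n x _ a => (map_pow x a n).symm
  have hRne : R ≠ ⊤ := fun e => by rw [e, index_top] at hRidx; omega
  -- squares lie in `R`
  have hsq : ∀ a : A, a ^ 2 ∈ R := by
    set U := R ⊔ (⊤ : Subgroup A).map (powMonoidHom 2) with hU
    have hUinv : Inv U := by
      intro x hx a ha
      obtain ⟨p, hp, q, hq, rfl⟩ := mem_sup.1 ha
      rw [map_mul]
      exact mul_mem (mem_sup_left (hRinv x hx p hp))
        (mem_sup_right (hinvmap _ ⊤ (hpowcomm 2) (fun _ _ _ _ => mem_top _) x hx q hq))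
    have hUtop : U ≠ ⊤ := by
      intro e
      have hsurj : Function.Surjective (powMonoidHom 2 : A ⧸ R →* A ⧸ R) := fun b => by
        obtain ⟨b, rfl⟩ := QuotientGroup.mk_surjective b
        obtain ⟨p, hp, _, ⟨c, -, rfl⟩, rfl⟩ := mem_sup.1 (e.ge (mem_top b))
        refine ⟨c, ?_⟩
        show (c : A ⧸ R) ^ 2 = ((p * c ^ 2 : A) : A ⧸ R)
        rw [QuotientGroup.mk_mul, (QuotientGroup.eq_one_iff p).2 hp, one_mul, QuotientGroup.mk_pow]
      have hinj := Finite.injective_iff_surjective.2 hsurj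
      obtain ⟨b, hb⟩ := exists_prime_orderOf_dvd_card' (G := A ⧸ R) 2 (by
        rw [← Subgroup.index_eq_card, hRidx]; norm_num)
      have : b = 1 := hinj (by
        show b ^ 2 = (1 : A ⧸ R) ^ 2
        rw [one_pow]; exact orderOf_dvd_iff_pow_eq_one.1 hb.dvd)
      rw [this, orderOf_one] at hb
      omega
    intro a
    rw [← hbetween U hUinv le_sup_left hUtop]
    exact mem_sup_right ⟨a, mem_top a, rfl⟩
  -- the exponent
  obtain ⟨e, he⟩ := S.2.exists_card_eq
  have hex : ∃ j : ℕ, ∀ a : A, ∃ r ∈ R, (a * r) ^ (2 ^ j) = 1 :=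
    ⟨e, fun a => ⟨1, one_mem _, by rw [mul_one, ← he]; exact pow_card_eq_one' (x := a)⟩⟩
  set j := Nat.find hex with hj
  have hjspec := Nat.find_spec hex
  have hj0 : j ≠ 0 := fun h0 => hRne (eq_top_iff.2 fun a _ => by
    obtain ⟨r, hr, h1⟩ := hjspec a
    rw [← hj, h0, pow_zero, pow_one] at h1
    rw [eq_inv_of_mul_eq_one_left h1]
    exact inv_mem hr)
  obtain ⟨i, hi⟩ := Nat.exists_eq_succ_of_ne_zero hj0
  let K : Subgroup A :=
    { carrier := {a | ∃ r ∈ R, (a * r) ^ (2 ^ i) = 1}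
      one_mem' := ⟨1, one_mem _, by rw [mul_one, one_pow]⟩
      mul_mem' := by
        rintro a b ⟨r, hr, h1⟩ ⟨s, hs, h2⟩
        exact ⟨r * s, mul_mem hr hs, by rw [mul_mul_mul_comm, mul_pow, h1, h2, one_mul]⟩
      inv_mem' := by
        rintro a ⟨r, hr, h1⟩
        exact ⟨r⁻¹, inv_mem hr, by rw [← mul_inv, inv_pow, h1, inv_one]⟩ }
  have hKR : K = R := by
    refine hbetween K ?_ (fun r hr => ⟨r⁻¹, inv_mem hr, by rw [mul_inv_cancel, one_pow]⟩) ?_
    · rintro x hx a ⟨r, hr, h1⟩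
      exact ⟨x r, hRinv x hx r hr, by rw [← map_mul, ← map_pow, h1, map_one]⟩
    · intro e
      exact Nat.find_min hex (show i < Nat.find hex by omega) fun a => e.ge (mem_top a)
  have hkill : ∀ a : A, a ^ (2 ^ i) = 1 → a ∈ R := fun a h1 => by
    rw [← hKR]; exact ⟨1, one_mem _, by rwa [mul_one]⟩
  have hexp : ∀ a : A, a ^ (2 ^ (i + 1)) = 1 := by
    by_contra hno
    push Not at hno
    obtain ⟨a, ha⟩ := hno
    set U := Ω ⊓ (⊤ : Subgroup A).map (powMonoidHom (2 ^ (i + 1))) with hU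
    have hUinv : Inv U := fun x hx b hb =>
      ⟨hmemΩ.2 (by rw [← map_pow, hmemΩ.1 hb.1, map_one]),
        hinvmap _ ⊤ (hpowcomm _) (fun _ _ _ _ => mem_top _) x hx b hb.2⟩
    have hU1 : U ≠ ⊥ := by
      obtain ⟨b, hb⟩ := exists_prime_orderOf_dvd_card'
        (G := (⊤ : Subgroup A).map (powMonoidHom (2 ^ (i + 1)))) 2 (by
          have hp : IsPGroup 2 ((⊤ : Subgroup A).map (powMonoidHom (2 ^ (i + 1)))) :=
            S.2.to_subgroup _
          obtain ⟨k, hk⟩ := hp.exists_card_eq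
          rw [hk]
          refine dvd_pow_self 2 fun h0 => ha ?_
          rw [h0, pow_zero] at hk
          haveI := (Nat.card_eq_one_iff_unique.1 hk).1
          exact congrArg Subtype.val (Subsingleton.elim
            (⟨_, ⟨a, mem_top a, rfl⟩⟩ : (⊤ : Subgroup A).map (powMonoidHom (2 ^ (i + 1)))) 1))
      intro e
      have : (b : A) ∈ U := ⟨hmemΩ.2 (by
        rw [← SubgroupClass.coe_pow, orderOf_dvd_iff_pow_eq_one.1 hb.dvd]; rfl), b.2⟩
      rw [e, mem_bot, OneMemClass.coe_eq_one] at this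
      rw [this, orderOf_one] at hb
      omega
    have hUΩ := (hirr U hUinv inf_le_left).resolve_left hU1
    refine hRne (eq_top_iff.2 fun b _ => ?_)
    obtain ⟨r, hr, h1⟩ := hjspec b
    rw [← hj, hi] at h1
    have h2 : (b * r) ^ (2 ^ i) ∈ U := hUΩ.ge (hmemΩ.2 (by rw [← pow_mul, ← pow_succ, h1]))
    obtain ⟨-, y, -, hy⟩ := h2
    have hy' : y ^ (2 ^ (i + 1)) = (b * r) ^ (2 ^ i) := hy
    have h3 : b * r * (y ^ 2)⁻¹ ∈ R := hkill _ (by
      rw [mul_pow _ (y ^ 2)⁻¹, inv_pow, ← pow_mul, ← pow_succ', hy', mul_inv_cancel])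
    have h4 := mul_mem (mul_mem h3 (hsq y)) (inv_mem hr)
    simpa [mul_assoc] using h4
  have hRi' : ∀ r ∈ R, r ^ (2 ^ i) = 1 := by
    set U := R.map (powMonoidHom (2 ^ i)) with hU
    rcases hirr U (hinvmap _ R (hpowcomm _) hRinv) (by
      rintro _ ⟨r, -, rfl⟩
      exact hmemΩ.2 (by
        show (r ^ (2 ^ i)) ^ 2 = 1
        rw [← pow_mul, ← pow_succ]; exact hexp r)) with e | e
    · intro r hr
      exact mem_bot.1 (e ▸ ⟨r, hr, rfl⟩ : r ^ (2 ^ i) ∈ (⊥ : Subgroup A))
    · refine absurd (eq_top_iff.2 fun b _ => ?_) hRne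
      obtain ⟨r, hr, h1⟩ := e.ge (hmemΩ.2 (show (b ^ (2 ^ i)) ^ 2 = 1 by
        rw [← pow_mul, ← pow_succ]; exact hexp b))
      have h1' : r ^ (2 ^ i) = b ^ (2 ^ i) := h1
      have := mul_mem (hkill (b * r⁻¹) (by rw [mul_pow, inv_pow, h1', mul_inv_cancel])) hr
      rwa [inv_mul_cancel_right] at this
  set φ : A →* A := powMonoidHom (2 ^ i) with hφ
  have hker : φ.ker = R := le_antisymm (fun a ha => hkill a ha) hRi'
  have hrangeΩ : φ.range = Ω := by
    rw [MonoidHom.range_eq_map]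
    refine (hirr _ (hinvmap _ ⊤ (hpowcomm _) fun _ _ _ _ => mem_top _) ?_).resolve_left fun e => hRne ?_
    · rintro _ ⟨r, -, rfl⟩
      exact hmemΩ.2 (by
        show (r ^ (2 ^ i)) ^ 2 = 1
        rw [← pow_mul, ← pow_succ]; exact hexp r)
    · exact eq_top_iff.2 fun a _ => hkill a (mem_bot.1 (e ▸ ⟨a, mem_top a, rfl⟩))
  have hΩ4 : Nat.card Ω = 4 := by
    rw [← hrangeΩ, ← Subgroup.index_ker, hker, hRidx]
  by_cases hi0 : i = 0
  · subst hi0
    have hΩtop : Ω = ⊤ := eq_top_iff.2 fun a _ => hmemΩ.2 (by simpa using hexp a)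
    rw [hΩtop, Subgroup.card_top] at hΩ4
    exact hΩ4
  -- homocyclic of rank two
  exfalso
  obtain ⟨p, hp, hp1⟩ : ∃ p ∈ Ω, p ≠ 1 := by
    by_contra hno
    push Not at hno
    have := Subgroup.card_le_of_le (show Ω ≤ ⊥ from fun p hp => mem_bot.2 (hno p hp))
    rw [Subgroup.card_bot, hΩ4] at this
    omega
  obtain ⟨q, hq, hqp⟩ : ∃ q ∈ Ω, q ∉ zpowers p := by
    by_contra hno
    push Not at hno
    have := Subgroup.card_le_of_le (show Ω ≤ zpowers p from hno)
    rw [hΩ4, Nat.card_zpowers] at this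
    have := Nat.le_of_dvd two_pos (orderOf_dvd_of_pow_eq_one (hmemΩ.1 hp))
    omega
  have hsmall : ∀ k : ℤ, p ^ k = 1 ↔ Even k := fun k => by
    rw [← orderOf_dvd_iff_zpow_eq_one, orderOf_eq_prime (hmemΩ.1 hp) hp1, even_iff_two_dvd]
    norm_num
  have hq1 : q ≠ 1 := fun e => hqp (e ▸ one_mem _)
  have hsmallq : ∀ k : ℤ, q ^ k = 1 ↔ Even k := fun k => by
    rw [← orderOf_dvd_iff_zpow_eq_one, orderOf_eq_prime (hmemΩ.1 hq) hq1, even_iff_two_dvd]
    norm_num
  have hindep : ∀ u v : ℤ, p ^ u * q ^ v = 1 → Even u ∧ Even v := by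
    intro u v h1
    rcases Int.even_or_odd v with hv | ⟨l, rfl⟩
    · rw [(hsmallq v).2 hv, mul_one] at h1
      exact ⟨(hsmall u).1 h1, hv⟩
    · refine absurd ?_ hqp
      rw [zpow_add, (hsmallq (2 * l)).2 ⟨l, two_mul l⟩, zpow_one, one_mul] at h1
      rw [eq_inv_of_mul_eq_one_right h1]
      exact inv_mem (zpow_mem (mem_zpowers p) u)
  obtain ⟨x, hx⟩ := (hrangeΩ.symm ▸ hp : p ∈ φ.range)
  obtain ⟨y, hy⟩ := (hrangeΩ.symm ▸ hq : q ∈ φ.range)
  have hx' : x ^ (2 ^ i) = p := hx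
  have hy' : y ^ (2 ^ i) = q := hy
  have hxy : ∀ u v : ℤ, (x ^ u * y ^ v) ^ (2 ^ i) = p ^ u * q ^ v := fun u v => by
    rw [mul_pow, ← zpow_natCast (x ^ u), ← zpow_natCast (y ^ v), ← zpow_mul, ← zpow_mul,
      mul_comm u, mul_comm v, zpow_mul, zpow_mul, zpow_natCast, zpow_natCast, hx', hy']
  let f : A → ZMod (2 ^ (i + 1)) →+ Additive A := fun z =>
    ZMod.lift (2 ^ (i + 1)) ⟨zmultiplesHom (Additive A) (Additive.ofMul z), by
      rw [zmultiplesHom_apply, natCast_zsmul, ← ofMul_pow, hexp z, ofMul_one]⟩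
  let ψ : Multiplicative (ZMod (2 ^ (i + 1)) × ZMod (2 ^ (i + 1))) →* A :=
    AddMonoidHom.toMultiplicativeLeft ((f x).coprod (f y))
  have hψ : ∀ u v : ℤ, ψ (Multiplicative.ofAdd ((u : ZMod (2 ^ (i + 1))), (v : ZMod (2 ^ (i + 1))))) =
      x ^ u * y ^ v := fun u v => by
    show Additive.toMul ((f x) (u : ZMod (2 ^ (i + 1))) + (f y) (v : ZMod (2 ^ (i + 1)))) = _
    simp only [f, ZMod.lift_coe, zmultiplesHom_apply]
    rfl
  have hinj : Function.Injective ψ := by
    rw [← MonoidHom.ker_eq_bot_iff, eq_bot_iff]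
    intro z hz
    obtain ⟨u, hu⟩ := ZMod.intCast_surjective (Multiplicative.toAdd z).1
    obtain ⟨v, hv⟩ := ZMod.intCast_surjective (Multiplicative.toAdd z).2
    have hz' : z = Multiplicative.ofAdd ((u : ZMod (2 ^ (i + 1))), (v : ZMod (2 ^ (i + 1)))) := by
      rw [hu, hv]; rfl
    rw [hz', MonoidHom.mem_ker, hψ] at hz
    have hdiv : ∀ k ≤ i + 1, (2 : ℤ) ^ k ∣ u ∧ (2 : ℤ) ^ k ∣ v := by
      intro k
      induction k with
      | zero => intro _; exact ⟨by simp, by simp⟩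
      | succ k ih =>
        intro hk
        obtain ⟨⟨u', hu'⟩, ⟨v', hv'⟩⟩ := ih (by omega)
        have h1 : (x ^ u' * y ^ v') ^ (2 ^ k) = 1 := by
          rw [← zpow_natCast, mul_zpow, ← zpow_mul, ← zpow_mul]
          push_cast
          rw [mul_comm u', mul_comm v', ← hu', ← hv', hz]
        have h2 : p ^ u' * q ^ v' = 1 := by
          rw [← hxy, show i = k + (i - k) by omega, pow_add, pow_mul, h1, one_pow]
        obtain ⟨⟨a, rfl⟩, ⟨b, rfl⟩⟩ := hindep u' v' h2
        exact ⟨⟨a, by rw [hu', pow_succ]; ring⟩, ⟨b, by rw [hv', pow_succ]; ring⟩⟩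
    obtain ⟨h1, h2⟩ := hdiv (i + 1) le_rfl
    rw [mem_bot, hz']
    have hu0 : (u : ZMod (2 ^ (i + 1))) = 0 :=
      (ZMod.intCast_zmod_eq_zero_iff_dvd u _).2 (by push_cast; exact h1)
    have hv0 : (v : ZMod (2 ^ (i + 1))) = 0 :=
      (ZMod.intCast_zmod_eq_zero_iff_dvd v _).2 (by push_cast; exact h2)
    rw [hu0, hv0]
    rfl
  have hsurj : Function.Surjective ψ := by
    have hrange : ∀ u v : ℤ, x ^ u * y ^ v ∈ ψ.range := fun u v => ⟨_, hψ u v⟩
    have hxr : x ∈ ψ.range := by simpa using hrange 1 0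
    have hyr : y ∈ ψ.range := by simpa using hrange 0 1
    have hΩr : Ω ≤ ψ.range := by
      intro w hw
      have hH : zpowers p ⊔ zpowers q ≤ ψ.range :=
        sup_le (zpowers_le.2 (hx' ▸ pow_mem hxr _)) (zpowers_le.2 (hy' ▸ pow_mem hyr _))
      refine hH ?_
      have hlt : zpowers p < zpowers p ⊔ zpowers q := lt_of_le_of_ne le_sup_left
        fun e => hqp (e.ge (mem_sup_right (mem_zpowers q)))
      have hle : zpowers p ⊔ zpowers q ≤ Ω := sup_le (zpowers_le.2 hp) (zpowers_le.2 hq)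
      have hcp : Nat.card (zpowers p) = 2 := by
        rw [Nat.card_zpowers, orderOf_eq_prime (hmemΩ.1 hp) hp1]
      obtain ⟨k, hk⟩ := Subgroup.card_dvd_of_le hlt.le
      rw [hcp] at hk
      have hk1 : k ≠ 1 := fun e => hlt.ne (eq_of_le_of_card_ge hlt.le (by rw [hk, hcp, e]))
      have hk2 : k ≠ 0 := fun e => by rw [e, mul_zero] at hk; exact Nat.card_pos.ne' hk
      have : 4 ≤ Nat.card ↥(zpowers p ⊔ zpowers q) := by omega
      rw [eq_of_le_of_card_ge hle (by omega)]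
      exact hw
    have key : ∀ m : ℕ, m ≤ i + 1 → ∀ a : A, a ^ (2 ^ m) = 1 → a ∈ ψ.range := by
      intro m
      induction m with
      | zero => intro _ a ha; rw [pow_zero, pow_one] at ha; rw [ha]; exact one_mem _
      | succ m ih =>
        intro hm a ha
        obtain ⟨z, hz⟩ := ih (by omega) (a ^ 2) (by rw [← pow_mul, ← pow_succ', ha])
        obtain ⟨u, hu⟩ := ZMod.intCast_surjective (Multiplicative.toAdd z).1
        obtain ⟨v, hv⟩ := ZMod.intCast_surjective (Multiplicative.toAdd z).2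
        have hz' : z = Multiplicative.ofAdd ((u : ZMod (2 ^ (i + 1))), (v : ZMod (2 ^ (i + 1)))) := by
          rw [hu, hv]; rfl
        rw [hz', hψ] at hz
        obtain ⟨⟨a', rfl⟩, ⟨b', rfl⟩⟩ := hindep u v (by
          rw [← hxy, hz, ← pow_mul, ← pow_succ']; exact hexp a)
        set b := x ^ a' * y ^ b' with hb
        have h1 : a * b⁻¹ ∈ Ω := hmemΩ.2 (by
          rw [mul_pow, inv_pow, ← hz, zpow_add, zpow_add, hb, pow_two, mul_mul_mul_comm (x ^ a'),
            mul_inv_cancel])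
        have h2 : a * b⁻¹ * b ∈ ψ.range := mul_mem (hΩr h1) (hrange a' b')
        rwa [inv_mul_cancel_right] at h2
    exact fun a => key (i + 1) le_rfl a (hexp a)
  exact (RankTwoSimple.not_homocyclic hG heven S (n := i + 1) (by omega)).false
    (MulEquiv.ofBijective ψ ⟨hinj, hsurj⟩).symm

end Cfsg.Agent.IndexFour
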