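import Cfsg.Agent.Lib.IndexFour.Fusion
import Cfsg.Agent.Lib.RankTwoSimple.Basic
import Cfsg.Agent.Lib.RankOneP.DihedralTop

/-!
# Simple groups whose non-abelian Sylow 2-subgroup has centre of index four

With the product fusion hypothesis `DisjointClosed` (no two nontrivial disjoint commuting strongly
closed subgroups) the Sylow 2-subgroup is dihedral of order 8: exactly two maximal abelian subgroups
`A₁, A₂` carry a fusing element, `S = D × Y` with `D = ⟨v₁, v₂⟩` and `Y = [Z(S), N(S)]`, and both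
factors are strongly closed.
-/

set_option autoImplicit false
set_option linter.unusedSectionVars false

namespace Cfsg.Agent.IndexFour

open Subgroup Cfsg
open scoped commutatorElement

variable {G : Type*} [Group G] [Finite G]

/-- No two nontrivial disjoint commuting subgroups are strongly closed in a Sylow 2-subgroup. -/
def DisjointClosed (G : Type*) [Group G] : Prop :=
  ∀ (S : Sylow 2 G) (A B : Subgroup G), IsStronglyClosed A (S : Subgroup G) →
    IsStronglyClosed B (S : Subgroup G) → (∀ a ∈ A, ∀ b ∈ B, a * b = b * a) → A ⊓ B = ⊥ →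
      A = ⊥ ∨ B = ⊥

/-- Some element of `N(A)` moves `c`. -/
def Moves (c : G) (A : Subgroup G) : Prop := ∃ m ∈ normalizer (A : Set G), m * c * m⁻¹ ≠ c

/-- The subgroup `{1, p, q, p q}` of two commuting involutions. -/
theorem exists_four {p q : G} (hp : p * p = 1) (hq : q * q = 1) (hpq : p * q = q * p) :
    ∃ V : Subgroup G, ∀ x, x ∈ V ↔ x = 1 ∨ x = p ∨ x = q ∨ x = p * q := by
  have h1 : p * (p * q) = q := by rw [← mul_assoc, hp, one_mul]
  have h2 : q * (p * q) = p := by rw [hpq, ← mul_assoc, hq, one_mul]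
  have h3 : p * q * p = q := by rw [hpq, mul_assoc, hp, mul_one]
  have h4 : p * q * q = p := by rw [mul_assoc, hq, mul_one]
  have h5 : p * q * (p * q) = 1 := by rw [mul_assoc, h2, hp]
  refine ⟨{ carrier := {x | x = 1 ∨ x = p ∨ x = q ∨ x = p * q}
            one_mem' := Or.inl rfl
            inv_mem' := ?_
            mul_mem' := ?_ }, fun x => Iff.rfl⟩
  · rintro x y (rfl | rfl | rfl | rfl) (rfl | rfl | rfl | rfl) <;>
      simp only [Set.mem_ofPred_eq, one_mul, mul_one, hp, hq, h1, h2, h3, h4, h5, ← hpq, true_or,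
        or_true]
  · have hpi : p⁻¹ = p := inv_eq_of_mul_eq_one_right hp
    have hqi : q⁻¹ = q := inv_eq_of_mul_eq_one_right hq
    rintro x (rfl | rfl | rfl | rfl)
    · exact Or.inl inv_one
    · exact Or.inr (Or.inl hpi)
    · exact Or.inr (Or.inr (Or.inl hqi))
    · exact Or.inr (Or.inr (Or.inr (by rw [mul_inv_rev, hpi, hqi, hpq])))

variable {S : Sylow 2 G} {c : G}

theorem Quad.moves_conj (h : Quad (S : Subgroup G) c) {a n : G}
    (ha : a ∈ (S : Subgroup G)) (hn : n ∈ normalizer ((S : Subgroup G) : Set G))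
    (hm : Moves c (Cs (S : Subgroup G) a)) : Moves c (Cs (S : Subgroup G) (n * a * n⁻¹)) := by
  obtain ⟨m, hmN, hmc⟩ := hm
  have hin : ∀ {y}, y ∈ Cs (S : Subgroup G) a → n * y * n⁻¹ ∈ Cs (S : Subgroup G) (n * a * n⁻¹) :=
    fun {y} hy => mem_Cs.2 ⟨conj_mem_of_mem_normalizer hn hy.1, by
      rw [show n * y * n⁻¹ * (n * a * n⁻¹) = n * (y * a) * n⁻¹ by group, (mem_Cs.1 hy).2]; group⟩
  refine ⟨n * m * n⁻¹, mem_normalizer_of_forall fun z hz => ?_, fun e => hmc ?_⟩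
  · have hz' : n⁻¹ * z * n ∈ Cs (S : Subgroup G) a := mem_Cs.2 ⟨inv_conj_mem hn hz.1, by
      have e := (mem_Cs.1 hz).2
      calc n⁻¹ * z * n * a = n⁻¹ * (z * (n * a * n⁻¹)) * n := by group
        _ = n⁻¹ * ((n * a * n⁻¹) * z) * n := by rw [e]
        _ = a * (n⁻¹ * z * n) := by group⟩
    rw [show n * m * n⁻¹ * z * (n * m * n⁻¹)⁻¹ = n * (m * (n⁻¹ * z * n) * m⁻¹) * n⁻¹ by group]
    exact hin (conj_mem_of_mem_normalizer hmN hz')
  · have hc1 := h.c_conj hn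
    have hc2 : n⁻¹ * c * n = c := by simpa using h.c_conj (inv_mem hn)
    calc m * c * m⁻¹ = n⁻¹ * (n * m * n⁻¹ * c * (n * m * n⁻¹)⁻¹) * n := by
          conv_lhs => rw [← hc2]
          group
      _ = c := by rw [e, hc2]

theorem exists_moves [IsSimpleGroup G] (hG : ¬ IsMulCommutative G) (h : Quad (S : Subgroup G) c) :
    ∃ a ∈ (S : Subgroup G), a ∉ Zs (S : Subgroup G) ∧ Moves c (Cs (S : Subgroup G) a) := by
  haveI : Fact (Nat.Prime 2) := ⟨Nat.prime_two⟩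
  by_contra hno
  push Not at hno
  refine RankTwoSimple.not_isolated hG c
    ⟨orderOf_eq_prime (by rw [pow_two, h.c_sq]) h.c_ne, fun g hg => ?_⟩
  set y := g * c * g⁻¹ with hy
  have key : ∀ x ∈ (S : Subgroup G), ∀ q : G, q * x * q⁻¹ ∈ (S : Subgroup G) → x = c →
      q * x * q⁻¹ = c := by
    intro x hx q hq hxc
    refine (h.rel_of_local (fun p q => p = c ↔ q = c)
      ⟨fun _ => Iff.rfl, fun e => e.symm, fun e e' => e.trans e'⟩ ?_ ?_ hx hq).1 hxc
    · intro n hn x _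
      exact ⟨fun e => e ▸ h.c_conj hn, fun e => by
        calc x = n⁻¹ * (n * x * n⁻¹) * n := by group
          _ = c := by rw [e]; simpa using h.c_conj (inv_mem hn)⟩
    · intro a ha ha' m hm x _
      have hfix : ∀ m ∈ normalizer (Cs (S : Subgroup G) a : Set G), m * c * m⁻¹ = c := fun m hm =>
        by_contra fun e => hno a ha ha' ⟨m, hm, e⟩
      exact ⟨fun e => e ▸ hfix m hm, fun e => by
        calc x = m⁻¹ * (m * x * m⁻¹) * m := by group
          _ = c := by rw [e]; simpa using hfix _ (inv_mem hm)⟩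
  -- move `⟨c, y⟩` into `S` fixing `c`
  set C := centralizer ({c} : Set G) with hC
  have hSC : (S : Subgroup G) ≤ C := fun s hs =>
    mem_centralizer_singleton_iff.2 ((mem_Zs.1 h.c_mem).2 s hs)
  have hyC : y ∈ C := mem_centralizer_singleton_iff.2 hg.eq.symm
  have hy2 : orderOf (⟨y, hyC⟩ : C) ∣ 2 := by
    refine orderOf_dvd_of_pow_eq_one (Subtype.ext ?_)
    show (g * c * g⁻¹) ^ 2 = 1
    rw [conj_pow, pow_two, h.c_sq, mul_one, mul_inv_cancel]
  obtain ⟨T, hT⟩ := (IsPGroup.of_card_dvd_pow (p := 2) (n := 1)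
    (by rw [Nat.card_zpowers, pow_one]; exact hy2) :
      IsPGroup 2 (zpowers (⟨y, hyC⟩ : C))).exists_le_sylow
  have hcT : Nat.card ((T : Subgroup C).map C.subtype) = Nat.card (S : Subgroup G) := by
    rw [card_map_of_injective C.subtype_injective, T.card_eq_multiplicity, S.card_eq_multiplicity]
    congr 1
    refine le_antisymm ((Nat.factorization_le_iff_dvd Nat.card_pos.ne' Nat.card_pos.ne').2
      (card_subgroup_dvd_card C) 2) ?_
    refine (Nat.prime_two.pow_dvd_iff_le_factorization Nat.card_pos.ne').1 ?_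
    rw [← S.card_eq_multiplicity]
    exact Subgroup.card_dvd_of_le hSC
  obtain ⟨k, hk, hkT⟩ := exists_conj_into S hSC (map_subtype_le _) hcT
  have hky := hkT y ⟨⟨y, hyC⟩, hT (mem_zpowers _), rfl⟩
  have h1 := key c h.c_mem.1 (k * g)
    (by rwa [show k * g * c * (k * g)⁻¹ = k * y * k⁻¹ by rw [hy]; group]) rfl
  calc y = k⁻¹ * (k * g * c * (k * g)⁻¹) * k := by rw [hy]; group
    _ = c := by rw [h1, mul_assoc, ← mem_centralizer_singleton_iff.1 hk, inv_mul_cancel_left]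

/-- The data attached to a maximal abelian subgroup with moved `c`. -/
def MovedData (S : Subgroup G) (c a v : G) (W : Subgroup G) : Prop :=
  v ∈ Cs S a ∧ v ∉ Zs S ∧ v * v = 1 ∧
  (∀ m ∈ normalizer (Cs S a : Set G), m * c * m⁻¹ = c ∨ m * c * m⁻¹ = v ∨ m * c * m⁻¹ = c * v) ∧
  (∀ m ∈ normalizer (Cs S a : Set G), m * v * m⁻¹ = c ∨ m * v * m⁻¹ = v ∨ m * v * m⁻¹ = c * v) ∧
  W ≤ Zs S ∧ c ∉ W ∧ (∀ z ∈ Zs S, z ∈ W ∨ c * z ∈ W) ∧
  ∀ m ∈ normalizer (Cs S a : Set G), ∀ w ∈ W, m * w * m⁻¹ ∈ W ∧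
    ∃ n ∈ normalizer (S : Set G), n * w * n⁻¹ = m * w * m⁻¹

/-- **The Sylow 2-subgroup is dihedral of order eight.** -/
theorem Quad.nonempty_dihedral [IsSimpleGroup G] (hG : ¬ IsMulCommutative G) (hPF : DisjointClosed G)
    (h : Quad (S : Subgroup G) c) : Nonempty ((S : Subgroup G) ≃* DihedralGroup 4) := by
  classical
  haveI : Fact (Nat.Prime 2) := ⟨Nat.prime_two⟩
  have hperf : commutator G = ⊤ := by
    rcases IsSimpleGroup.eq_bot_or_eq_top_of_normal (commutator G) inferInstance with e | e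
    · refine absurd ⟨⟨fun a b => ?_⟩⟩ hG
      have : ⁅a, b⁆ ∈ (⊥ : Subgroup G) := e ▸ commutator_mem_commutator (mem_top a) (mem_top b)
      exact commutatorElement_eq_one_iff_mul_comm.1 (mem_bot.1 this)
    · exact e
  set Z := Zs (S : Subgroup G) with hZ
  obtain ⟨a₁, ha₁, ha₁', hM₁⟩ := exists_moves hG h
  have hsame : ∀ {a b}, a ∈ (S : Subgroup G) → a ∉ Z → b ∈ Cs (S : Subgroup G) a → b ∉ Z →
      Cs (S : Subgroup G) b = Cs (S : Subgroup G) a := fun ha ha' hb hb' => cs_eq h.card ha ha' hb hb'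
  -- a second moved subgroup
  obtain ⟨a₂, ha₂, ha₂', hne, hM₂⟩ : ∃ a₂ ∈ (S : Subgroup G), a₂ ∉ Z ∧
      a₂ ∉ Cs (S : Subgroup G) a₁ ∧ Moves c (Cs (S : Subgroup G) a₂) := by
    by_contra hno
    push Not at hno
    set T := Cs (S : Subgroup G) a₁ with hT
    have honly : ∀ a ∈ (S : Subgroup G), a ∉ Z → Moves c (Cs (S : Subgroup G) a) → a ∈ T :=
      fun a ha ha' hm => by_contra fun e => hno a ha ha' e hm
    have hNT : ∀ n ∈ normalizer ((S : Subgroup G) : Set G), ∀ x ∈ T, n * x * n⁻¹ ∈ T := by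
      have h1 : ∀ n ∈ normalizer ((S : Subgroup G) : Set G), ∀ x ∈ T, x ∉ Z → n * x * n⁻¹ ∈ T :=
        fun n hn x hx hxZ => honly _ (conj_mem_of_mem_normalizer hn hx.1)
          (fun hz => hxZ (by simpa [mul_assoc] using Zs_conj (inv_mem hn) hz))
          (h.moves_conj hx.1 hn (by rw [hsame ha₁ ha₁' hx hxZ]; exact hM₁))
      intro n hn x hx
      by_cases hxZ : x ∈ Z
      · exact (zs_lt_cs ha₁ ha₁').le (Zs_conj hn hxZ)
      · exact h1 n hn x hx hxZ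
    have hNS : ∀ n ∈ normalizer ((S : Subgroup G) : Set G), ∀ x ∈ (S : Subgroup G),
        x⁻¹ * (n * x * n⁻¹) ∈ T := fun n hn x hx => by
      refine (mul_mem_cs h.card ha₁ ha₁' (inv_mem hx) (conj_mem_of_mem_normalizer hn hx)).2
        ⟨fun h1 => hNT n hn x (by simpa using inv_mem h1), fun h1 => inv_mem ?_⟩
      simpa [mul_assoc] using hNT n⁻¹ (inv_mem hn) _ h1
    have hall := le_of_rel hperf S T fun x hx g hg => h.rel_of_local (fun p q => p⁻¹ * q ∈ T)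
      ⟨fun p => by rw [inv_mul_cancel]; exact one_mem _,
        fun {p q} e => by simpa [mul_assoc] using inv_mem e,
        fun {p q r} e e' => by simpa [mul_assoc] using mul_mem e e'⟩ hNS
      (fun a ha ha' m hm x hx => by
        by_cases haT : a ∈ T
        · have hA : Cs (S : Subgroup G) a = T := hsame ha₁ ha₁' haT ha'
          rw [hA] at hm hx
          exact mul_mem (inv_mem hx) (conj_mem_of_mem_normalizer hm hx)
        · obtain ⟨n, hn, he⟩ := h.exists_of_fix ha ha' hm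
            (by_contra fun e => haT (honly a ha ha' ⟨m, hm, e⟩))
          rw [← he x hx]
          exact hNS n hn x hx.1) hx hg
    obtain ⟨s, hs, hsT⟩ := h.exists_outside ha₁ ha₁'
    exact hsT (hall hs)
  obtain ⟨m₁, hm₁, hmv₁⟩ := id hM₁
  obtain ⟨m₂, hm₂, hmv₂⟩ := id hM₂
  obtain ⟨v₁, W₁, d₁⟩ : ∃ v W, MovedData (S : Subgroup G) c a₁ v W := h.of_moved ha₁ ha₁' hm₁ hmv₁
  obtain ⟨v₂, W₂, d₂⟩ : ∃ v W, MovedData (S : Subgroup G) c a₂ v W := h.of_moved ha₂ ha₂' hm₂ hmv₂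
  obtain ⟨hv₁A, hv₁Z, hv₁sq, horb₁, horbv₁, hW₁Z, hcW₁, hdec₁, hinv₁⟩ := d₁
  obtain ⟨hv₂A, hv₂Z, hv₂sq, horb₂, horbv₂, hW₂Z, hcW₂, hdec₂, hinv₂⟩ := d₂
  have hA₁ : Cs (S : Subgroup G) v₁ = Cs (S : Subgroup G) a₁ := hsame ha₁ ha₁' hv₁A hv₁Z
  have hA₂ : Cs (S : Subgroup G) v₂ = Cs (S : Subgroup G) a₂ := hsame ha₂ ha₂' hv₂A hv₂Z
  have hv₁S : v₁ ∈ (S : Subgroup G) := hv₁A.1
  have hv₂S : v₂ ∈ (S : Subgroup G) := hv₂A.1
  have hnv : v₂ ∉ Cs (S : Subgroup G) a₁ := fun hv => hne <| by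
    rw [← hsame ha₁ ha₁' hv hv₂Z, hA₂]; exact mem_Cs.2 ⟨ha₂, rfl⟩
  have hnv' : v₁ ∉ Cs (S : Subgroup G) a₂ := fun hv => hne <| by
    rw [← hA₁, hsame ha₂ ha₂' hv hv₁Z]; exact mem_Cs.2 ⟨ha₂, rfl⟩
  have hcz : ∀ {x}, x ∈ (S : Subgroup G) → x * c = c * x := fun {x} hx => (mem_Zs.1 h.c_mem).2 x hx
  have hb : v₂ * v₁ * v₂⁻¹ = v₁ * c := (h.comm v₁ hv₁S v₂ hv₂S).resolve_left fun e => hnv (by
    rw [← hA₁]; exact mem_Cs.2 ⟨hv₂S, conj_eq_self_iff.1 e⟩)
  have hv₂i : v₂⁻¹ = v₂ := inv_eq_of_mul_eq_one_right hv₂sq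
  have hv₁i : v₁⁻¹ = v₁ := inv_eq_of_mul_eq_one_right hv₁sq
  set w := v₁ * v₂ with hw
  have hwS : w ∈ (S : Subgroup G) := mul_mem hv₁S hv₂S
  have hw2 : w * w = c := by
    calc v₁ * v₂ * (v₁ * v₂) = v₁ * (v₂ * v₁ * v₂⁻¹) := by rw [hv₂i]; group
      _ = c := by rw [hb, ← mul_assoc, hv₁sq, one_mul]
  -- every element outside `A₁` and `A₂` lies in `w Z`, and that subgroup fixes `c`
  have hthird : ∀ a ∈ (S : Subgroup G), a ∉ Cs (S : Subgroup G) a₁ → a ∉ Cs (S : Subgroup G) a₂ →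
      w⁻¹ * a ∈ Z := by
    intro a ha h1 h2
    have hwn1 : w ∉ Cs (S : Subgroup G) a₁ := fun hh => hnv (by
      simpa [hw] using mul_mem (inv_mem hv₁A) hh)
    have hwn2 : w ∉ Cs (S : Subgroup G) a₂ := fun hh => hnv' (by
      simpa [hw] using mul_mem hh (inv_mem hv₂A))
    have e1 : w⁻¹ * a ∈ Cs (S : Subgroup G) a₁ := (mul_mem_cs h.card ha₁ ha₁' (inv_mem hwS) ha).2
      (iff_of_false (fun hh => hwn1 (by simpa using inv_mem hh)) h1)
    have e2 : w⁻¹ * a ∈ Cs (S : Subgroup G) a₂ := (mul_mem_cs h.card ha₂ ha₂' (inv_mem hwS) ha).2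
      (iff_of_false (fun hh => hwn2 (by simpa using inv_mem hh)) h2)
    by_contra hz
    exact hne (by rw [← hsame ha₁ ha₁' e1 hz, hsame ha₂ ha₂' e2 hz]; exact mem_Cs.2 ⟨ha₂, rfl⟩)
  have hfix : ∀ a ∈ (S : Subgroup G), a ∉ Z → a ∉ Cs (S : Subgroup G) a₁ →
      a ∉ Cs (S : Subgroup G) a₂ →
      ∀ m ∈ normalizer (Cs (S : Subgroup G) a : Set G), m * c * m⁻¹ = c := by
    intro a ha ha' h1 h2 m hm
    by_contra hmc
    obtain ⟨v₃, W₃, hv₃A, hv₃Z, hv₃sq, -⟩ := h.of_moved ha ha' hm hmc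
    have e3 := hsame ha ha' hv₃A hv₃Z
    have haC : a ∈ Cs (S : Subgroup G) v₃ := e3 ▸ mem_Cs.2 ⟨ha, rfl⟩
    have hv₃1 : v₃ ∉ Cs (S : Subgroup G) a₁ := fun hh => h1 (hsame ha₁ ha₁' hh hv₃Z ▸ haC)
    have hv₃2 : v₃ ∉ Cs (S : Subgroup G) a₂ := fun hh => h2 (hsame ha₂ ha₂' hh hv₃Z ▸ haC)
    have hz := hthird v₃ hv₃A.1 hv₃1 hv₃2
    set z := w⁻¹ * v₃ with hzdef
    have hzc : z * z = c := by
      have e : (w * z) * (w * z) = 1 := by rw [hzdef, mul_inv_cancel_left, hv₃sq]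
      rw [show (w * z) * (w * z) = w * (z * w) * z by group, ← (mem_Zs.1 hz).2 w hwS] at e
      have e' : c * (z * z) = 1 := by rw [← hw2, ← e]; group
      rw [eq_inv_of_mul_eq_one_right e', inv_eq_of_mul_eq_one_right h.c_sq]
    rcases hdec₁ z hz with e | e
    · exact hcW₁ (hzc ▸ mul_mem e e)
    · have e' := mul_mem e e
      have e2 : c * z * (c * z) = c := by
        calc c * z * (c * z) = c * (z * c) * z := by group
          _ = c * (c * z) * z := by rw [hcz hz.1]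
          _ = (c * c) * (z * z) := by group
          _ = c := by rw [h.c_sq, one_mul, hzc]
      rw [e2] at e'
      exact hcW₁ e'
  -- `N(S)` fixes both
  have hNfix : ∀ n ∈ normalizer ((S : Subgroup G) : Set G),
      n * v₁ * n⁻¹ ∈ Cs (S : Subgroup G) a₁ ∧ n * v₂ * n⁻¹ ∈ Cs (S : Subgroup G) a₂ := by
    have hout : ∀ n ∈ normalizer ((S : Subgroup G) : Set G), ∀ v ∈ (S : Subgroup G), v ∉ Z →
        Moves c (Cs (S : Subgroup G) v) →
        n * v * n⁻¹ ∈ Cs (S : Subgroup G) a₁ ∨ n * v * n⁻¹ ∈ Cs (S : Subgroup G) a₂ := by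
      intro n hn v hv hvZ hmv
      by_contra hno
      push Not at hno
      obtain ⟨m, hm, hmc⟩ := h.moves_conj hv hn hmv
      exact hmc (hfix _ (conj_mem_of_mem_normalizer hn hv)
        (fun hz => hvZ (by simpa [mul_assoc] using Zs_conj (inv_mem hn) hz)) hno.1 hno.2 m hm)
    -- an element of odd order fixes each
    let A : Bool → Subgroup G := fun b => if b then Cs (S : Subgroup G) a₁ else Cs (S : Subgroup G) a₂
    let v : Bool → G := fun b => if b then v₁ else v₂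
    have himg : ∀ n ∈ normalizer ((S : Subgroup G) : Set G), ∀ b, ∃ b', ∀ x ∈ A b, n * x * n⁻¹ ∈ A b' := by
      intro n hn b
      have hvb : v b ∈ A b ∧ v b ∉ Z ∧ (∀ x ∈ A b, x ∉ Z → Cs (S : Subgroup G) x = A b) ∧
          Moves c (A b) := by
        cases b
        · exact ⟨hv₂A, hv₂Z, fun x hx hxZ => hsame ha₂ ha₂' hx hxZ, hM₂⟩
        · exact ⟨hv₁A, hv₁Z, fun x hx hxZ => hsame ha₁ ha₁' hx hxZ, hM₁⟩
      obtain ⟨hbA, hbZ, hbC, hbM⟩ := hvb
      have hbS : v b ∈ (S : Subgroup G) := by cases b <;> assumption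
      have hnZ : n * v b * n⁻¹ ∉ Z := fun hz => hbZ (by simpa [mul_assoc] using Zs_conj (inv_mem hn) hz)
      have hCs : ∀ x ∈ A b, n * x * n⁻¹ ∈ Cs (S : Subgroup G) (n * v b * n⁻¹) := fun x hx => by
        rw [← hbC _ hbA hbZ] at hx
        refine mem_Cs.2 ⟨conj_mem_of_mem_normalizer hn hx.1, ?_⟩
        rw [show n * x * n⁻¹ * (n * v b * n⁻¹) = n * (x * v b) * n⁻¹ by group, (mem_Cs.1 hx).2]
        group
      rcases hout n hn (v b) hbS hbZ (by rw [hbC _ hbA hbZ]; exact hbM) with e | e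
      · exact ⟨true, fun x hx => by
          show n * x * n⁻¹ ∈ Cs (S : Subgroup G) a₁
          rw [← hsame ha₁ ha₁' e hnZ]; exact hCs x hx⟩
      · exact ⟨false, fun x hx => by
          show n * x * n⁻¹ ∈ Cs (S : Subgroup G) a₂
          rw [← hsame ha₂ ha₂' e hnZ]; exact hCs x hx⟩
    have hdiff : ∀ b b', v b ∈ A b' → b = b' := by
      rintro (_ | _) (_ | _) hh
      exacts [rfl, absurd hh hnv, absurd hh hnv', rfl]
    have hself : ∀ b, v b ∈ A b := by rintro (_ | _) <;> assumption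
    intro n hn
    obtain ⟨k, o, ho, hko⟩ := Nat.exists_eq_two_pow_mul_odd (orderOf_pos n).ne'
    have hnS : n ^ o ∈ (S : Subgroup G) := by
      have hp : IsPGroup 2 (zpowers (n ^ o)) := by
        refine IsPGroup.of_card_dvd_pow (n := k) ?_
        rw [Nat.card_zpowers]
        exact orderOf_dvd_of_pow_eq_one (by rw [← pow_mul, mul_comm, ← hko, pow_orderOf_eq_one])
      have := hp.inf_normalizer_sylow S
      have hmem : n ^ o ∈ zpowers (n ^ o) ⊓ normalizer ((S : Subgroup G) : Set G) :=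
        ⟨mem_zpowers _, pow_mem hn o⟩
      exact (le_of_eq this hmem).2
    suffices hmain : ∀ b, n * v b * n⁻¹ ∈ A b from ⟨hmain true, hmain false⟩
    intro b
    obtain ⟨b', hb'⟩ := himg n hn b
    by_cases hbb : b' = b
    · rw [hbb] at hb'; exact hb' _ (hself b)
    exfalso
    have hother : ∀ {p q r : Bool}, p ≠ q → q ≠ r → p = r := by decide
    -- `n` swaps the two
    obtain ⟨b'', hb''⟩ := himg n hn b'
    have hback : b'' = b := by
      refine hother (q := b') ?_ hbb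
      rintro rfl
      obtain ⟨b₃, hb₃⟩ := himg n⁻¹ (inv_mem hn) b''
      have e1 : b = b₃ := hdiff _ _ (by simpa [mul_assoc] using hb₃ _ (hb' _ (hself b)))
      have e2 : b'' = b₃ := hdiff _ _ (by simpa [mul_assoc] using hb₃ _ (hb'' _ (hself b'')))
      exact hbb (e2.trans e1.symm)
    rw [hback] at hb''
    obtain ⟨l, rfl⟩ := ho
    have hpow : ∀ j : ℕ, ∀ x ∈ A b, n ^ (2 * j) * x * (n ^ (2 * j))⁻¹ ∈ A b := by
      intro j
      induction j with
      | zero => intro x hx; simpa using hx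
      | succ j ih =>
        intro x hx
        have := hb'' _ (hb' _ (ih x hx))
        rw [show n * (n * (n ^ (2 * j) * x * (n ^ (2 * j))⁻¹) * n⁻¹) * n⁻¹
          = n ^ (2 * (j + 1)) * x * (n ^ (2 * (j + 1)))⁻¹ by
            rw [show 2 * (j + 1) = 1 + (1 + 2 * j) by ring, pow_add, pow_add, pow_one]; group] at this
        exact this
    have h1 : n ^ (2 * l + 1) * v b * (n ^ (2 * l + 1))⁻¹ ∈ A b' := by
      have := hb' _ (hpow l _ (hself b))
      rw [show n * (n ^ (2 * l) * v b * (n ^ (2 * l))⁻¹) * n⁻¹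
        = n ^ (2 * l + 1) * v b * (n ^ (2 * l + 1))⁻¹ by rw [pow_succ']; group] at this
      exact this
    have hnorm : n ^ (2 * l + 1) ∈ normalizer (A b : Set G) := by
      cases b
      · exact le_normalizer_cs h.card ha₂ ha₂' hnS
      · exact le_normalizer_cs h.card ha₁ ha₁' hnS
    have h2 : n ^ (2 * l + 1) * v b * (n ^ (2 * l + 1))⁻¹ ∈ A b :=
      conj_mem_of_mem_normalizer hnorm (hself b)
    have h3 : n ^ (2 * l + 1) * v b * (n ^ (2 * l + 1))⁻¹ ∉ Z := fun hz => by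
      have := Zs_conj (inv_mem (pow_mem hn (2 * l + 1))) hz
      cases b
      · exact hv₂Z (by simpa [v, mul_assoc] using this)
      · exact hv₁Z (by simpa [v, mul_assoc] using this)
    cases b <;> cases b' <;> first
      | exact hbb rfl
      | exact hne (by rw [← hsame ha₁ ha₁' h1 h3, hsame ha₂ ha₂' h2 h3]; exact mem_Cs.2 ⟨ha₂, rfl⟩)
      | exact hne (by rw [← hsame ha₁ ha₁' h2 h3, hsame ha₂ ha₂' h1 h3]; exact mem_Cs.2 ⟨ha₂, rfl⟩)
  have hNA : ∀ n ∈ normalizer ((S : Subgroup G) : Set G),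
      n ∈ normalizer (Cs (S : Subgroup G) a₁ : Set G) ∧
      n ∈ normalizer (Cs (S : Subgroup G) a₂ : Set G) := by
    intro n hn
    have key : ∀ {a v}, a ∈ (S : Subgroup G) → a ∉ Z → v ∈ Cs (S : Subgroup G) a → v ∉ Z →
        n * v * n⁻¹ ∈ Cs (S : Subgroup G) a → n ∈ normalizer (Cs (S : Subgroup G) a : Set G) := by
      intro a v ha ha' hv hv' hnv
      refine mem_normalizer_of_forall fun x hx => ?_
      rw [← hsame ha ha' hnv (fun hz => hv' (by simpa [mul_assoc] using Zs_conj (inv_mem hn) hz))]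
      rw [← hsame ha ha' hv hv'] at hx
      refine mem_Cs.2 ⟨conj_mem_of_mem_normalizer hn hx.1, ?_⟩
      rw [show n * x * n⁻¹ * (n * v * n⁻¹) = n * (x * v) * n⁻¹ by group, (mem_Cs.1 hx).2]
      group
    exact ⟨key ha₁ ha₁' hv₁A hv₁Z (hNfix n hn).1, key ha₂ ha₂' hv₂A hv₂Z (hNfix n hn).2⟩
  -- the dihedral factor
  obtain ⟨V₁, hV₁⟩ := exists_four h.c_sq hv₁sq (hcz hv₁S).symm
  obtain ⟨V₂, hV₂⟩ := exists_four h.c_sq hv₂sq (hcz hv₂S).symm
  set D := V₁ ⊔ zpowers v₂ with hD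
  have hcD : c ∈ D := mem_sup_left ((hV₁ c).2 (Or.inr (Or.inl rfl)))
  have hv₁D : v₁ ∈ D := mem_sup_left ((hV₁ v₁).2 (Or.inr (Or.inr (Or.inl rfl))))
  have hv₂D : v₂ ∈ D := mem_sup_right (mem_zpowers v₂)
  have hV₁A : V₁ ≤ Cs (S : Subgroup G) a₁ := fun x hx => by
    rcases (hV₁ x).1 hx with rfl | rfl | rfl | rfl
    exacts [one_mem _, h.c_mem_cs ha₁ ha₁', hv₁A, mul_mem (h.c_mem_cs ha₁ ha₁') hv₁A]
  have hz2 : ∀ x ∈ zpowers v₂, x = 1 ∨ x = v₂ := fun x hx => by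
    obtain ⟨i, rfl⟩ := mem_zpowers_iff.1 hx
    rcases Int.even_or_odd' i with ⟨j, rfl | rfl⟩
    · left; rw [zpow_mul, zpow_two, hv₂sq, one_zpow]
    · right; rw [zpow_add, zpow_mul, zpow_two, hv₂sq, one_zpow, one_mul, zpow_one]
  have hv₂V₁ : zpowers v₂ ≤ normalizer (V₁ : Set G) := by
    refine zpowers_le.2 (mem_normalizer_of_forall fun x hx => ?_)
    rcases (hV₁ x).1 hx with rfl | rfl | rfl | rfl
    · rw [mul_one, mul_inv_cancel]; exact one_mem _
    · rw [conj_eq_self_iff.2 (hcz hv₂S)]; exact hx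
    · rw [hb, hcz hv₁S]
      exact (hV₁ _).2 (Or.inr (Or.inr (Or.inr rfl)))
    · rw [show v₂ * (c * v₁) * v₂⁻¹ = (v₂ * c * v₂⁻¹) * (v₂ * v₁ * v₂⁻¹) by group, hb,
        conj_eq_self_iff.2 (hcz hv₂S), hcz hv₁S, ← mul_assoc, h.c_sq, one_mul]
      exact (hV₁ _).2 (Or.inr (Or.inr (Or.inl rfl)))
  have hDmem : ∀ {x}, x ∈ D → ∃ p ∈ V₁, ∃ q, (q = 1 ∨ q = v₂) ∧ p * q = x := by
    intro x hx
    rw [hD, ← SetLike.mem_coe, Subgroup.coe_mul_of_right_le_normalizer_left _ _ hv₂V₁] at hx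
    obtain ⟨p, hp, q, hq, e⟩ := hx
    exact ⟨p, hp, q, hz2 q hq, e⟩
  have hDS : D ≤ (S : Subgroup G) := sup_le (hV₁A.trans cs_le) (zpowers_le.2 hv₂S)
  have hDA₁ : ∀ x ∈ D, x ∈ Cs (S : Subgroup G) a₁ → x ∈ V₁ := by
    intro x hx hxA
    obtain ⟨p, hp, q, hq, rfl⟩ := hDmem hx
    rcases hq with rfl | rfl
    · rwa [mul_one]
    · exact absurd (by simpa using mul_mem (inv_mem (hV₁A hp)) hxA) hnv
  have hDA₂ : ∀ x ∈ D, x ∈ Cs (S : Subgroup G) a₂ → x ∈ V₂ := by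
    intro x hx hxA
    obtain ⟨p, hp, q, hq, rfl⟩ := hDmem hx
    have hqA : q ∈ Cs (S : Subgroup G) a₂ := by
      rcases hq with rfl | rfl
      exacts [one_mem _, hv₂A]
    have hpA : p ∈ Cs (S : Subgroup G) a₂ := by simpa using mul_mem hxA (inv_mem hqA)
    have hpc : p = 1 ∨ p = c := by
      rcases (hV₁ p).1 hp with e | e | e | e
      · exact Or.inl e
      · exact Or.inr e
      · exact absurd (e ▸ hpA) hnv'
      · refine absurd ?_ hnv'
        have := mul_mem (inv_mem (h.c_mem_cs ha₂ ha₂')) hpA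
        rwa [e, inv_mul_cancel_left] at this
    rw [hV₂]
    rcases hpc with rfl | rfl <;> rcases hq with rfl | rfl <;> simp
  have hDZ : ∀ x ∈ D, x ∈ Z → x = 1 ∨ x = c := by
    intro x hx hxZ
    rcases (hV₁ x).1 (hDA₁ x hx ((zs_lt_cs ha₁ ha₁').le hxZ)) with e | e | e | e
    · exact Or.inl e
    · exact Or.inr e
    · exact absurd (e ▸ hxZ) hv₁Z
    · refine absurd ?_ hv₁Z
      have := mul_mem (inv_mem h.c_mem) hxZ
      rwa [e, inv_mul_cancel_left] at this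
  have hN₁ : ∀ m ∈ normalizer (Cs (S : Subgroup G) a₁ : Set G), ∀ x ∈ V₁, m * x * m⁻¹ ∈ V₁ := by
    have hin : ∀ {x}, x = c ∨ x = v₁ ∨ x = c * v₁ → x ∈ V₁ := fun e => (hV₁ _).2 (Or.inr e)
    intro m hm x hx
    rcases (hV₁ x).1 hx with rfl | rfl | rfl | rfl
    · rw [mul_one, mul_inv_cancel]; exact one_mem _
    · exact hin (horb₁ m hm)
    · exact hin (horbv₁ m hm)
    · rw [show m * (c * v₁) * m⁻¹ = (m * c * m⁻¹) * (m * v₁ * m⁻¹) by group]
      exact mul_mem (hin (horb₁ m hm)) (hin (horbv₁ m hm))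
  have hN₂ : ∀ m ∈ normalizer (Cs (S : Subgroup G) a₂ : Set G), ∀ x ∈ V₂, m * x * m⁻¹ ∈ V₂ := by
    have hin : ∀ {x}, x = c ∨ x = v₂ ∨ x = c * v₂ → x ∈ V₂ := fun e => (hV₂ _).2 (Or.inr e)
    intro m hm x hx
    rcases (hV₂ x).1 hx with rfl | rfl | rfl | rfl
    · rw [mul_one, mul_inv_cancel]; exact one_mem _
    · exact hin (horb₂ m hm)
    · exact hin (horbv₂ m hm)
    · rw [show m * (c * v₂) * m⁻¹ = (m * c * m⁻¹) * (m * v₂ * m⁻¹) by group]
      exact mul_mem (hin (horb₂ m hm)) (hin (horbv₂ m hm))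
  have hV₂D : V₂ ≤ D := fun x hx => by
    rcases (hV₂ x).1 hx with rfl | rfl | rfl | rfl
    exacts [one_mem _, hcD, hv₂D, mul_mem hcD hv₂D]
  have hND : ∀ n ∈ normalizer ((S : Subgroup G) : Set G), ∀ x ∈ D, n * x * n⁻¹ ∈ D := by
    intro n hn x hx
    obtain ⟨p, hp, q, hq, rfl⟩ := hDmem hx
    rw [show n * (p * q) * n⁻¹ = (n * p * n⁻¹) * (n * q * n⁻¹) by group]
    refine mul_mem (mem_sup_left (hN₁ n (hNA n hn).1 p hp)) (hV₂D (hN₂ n (hNA n hn).2 q ((hV₂ q).2 ?_)))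
    rcases hq with rfl | rfl <;> simp
  -- the complement
  set Y := Subgroup.closure {y : G | ∃ z ∈ Z, ∃ n ∈ normalizer ((S : Subgroup G) : Set G),
    y = z⁻¹ * (n * z * n⁻¹)} with hY
  have hgen : ∀ z ∈ Z, ∀ n ∈ normalizer ((S : Subgroup G) : Set G), z⁻¹ * (n * z * n⁻¹) ∈ Y :=
    fun z hz n hn => subset_closure ⟨z, hz, n, hn, rfl⟩
  have hYW : ∀ {a v W}, MovedData (S : Subgroup G) c a v W →
      (∀ n ∈ normalizer ((S : Subgroup G) : Set G), n ∈ normalizer (Cs (S : Subgroup G) a : Set G)) →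
      Y ≤ W := by
    rintro a v W ⟨-, -, -, -, -, hWZ, -, hdec, hinv⟩ hN
    rw [hY, closure_le]
    rintro _ ⟨z, hz, n, hn, rfl⟩
    rcases hdec z hz with e | e
    · exact mul_mem (inv_mem e) (hinv n (hN n hn) z e).1
    · have h1 := mul_mem (inv_mem e) (hinv n (hN n hn) _ e).1
      rwa [show (c * z)⁻¹ * (n * (c * z) * n⁻¹) = z⁻¹ * (c⁻¹ * (n * c * n⁻¹)) * (n * z * n⁻¹) by group,
        h.c_conj hn, inv_mul_cancel, mul_one] at h1
  have hYW₁ : Y ≤ W₁ := hYW ⟨hv₁A, hv₁Z, hv₁sq, horb₁, horbv₁, hW₁Z, hcW₁, hdec₁, hinv₁⟩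
    fun n hn => (hNA n hn).1
  have hYW₂ : Y ≤ W₂ := hYW ⟨hv₂A, hv₂Z, hv₂sq, horb₂, horbv₂, hW₂Z, hcW₂, hdec₂, hinv₂⟩
    fun n hn => (hNA n hn).2
  have hYZ : Y ≤ Z := hYW₁.trans hW₁Z
  have hNY : ∀ n ∈ normalizer ((S : Subgroup G) : Set G), ∀ y ∈ Y, n * y * n⁻¹ ∈ Y := by
    intro n hn
    suffices Y ≤ Y.comap (MulAut.conj n).toMonoidHom from fun y hy => this hy
    rw [hY, closure_le]
    rintro _ ⟨z, hz, k, hk, rfl⟩
    refine subset_closure ⟨n * z * n⁻¹, Zs_conj hn hz, n * k * n⁻¹,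
      mul_mem (mul_mem hn hk) (inv_mem hn), ?_⟩
    show n * (z⁻¹ * (k * z * k⁻¹)) * n⁻¹ = _
    group
  -- the focal subgroup
  set T := D ⊔ Y with hT
  have hDT : D ≤ T := le_sup_left
  have hYT : Y ≤ T := le_sup_right
  have hcase : ∀ a ∈ (S : Subgroup G), a ∉ Z →
      Cs (S : Subgroup G) a = Cs (S : Subgroup G) a₁ ∨ Cs (S : Subgroup G) a = Cs (S : Subgroup G) a₂ ∨
      ∀ m ∈ normalizer (Cs (S : Subgroup G) a : Set G), ∃ n ∈ normalizer ((S : Subgroup G) : Set G),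
        ∀ x ∈ Cs (S : Subgroup G) a, n * x * n⁻¹ = m * x * m⁻¹ := by
    intro a ha ha'
    by_cases h1 : a ∈ Cs (S : Subgroup G) a₁
    · exact Or.inl (hsame ha₁ ha₁' h1 ha')
    by_cases h2 : a ∈ Cs (S : Subgroup G) a₂
    · exact Or.inr (Or.inl (hsame ha₂ ha₂' h2 ha'))
    exact Or.inr (Or.inr fun m hm => h.exists_of_fix ha ha' hm (hfix a ha ha' h1 h2 m hm))
  have hNT : ∀ n ∈ normalizer ((S : Subgroup G) : Set G), ∀ x ∈ (S : Subgroup G),
      x⁻¹ * (n * x * n⁻¹) ∈ T := by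
    intro n hn x hx
    obtain ⟨d, hd, hdx⟩ : ∃ d ∈ D, d⁻¹ * x ∈ Z := by
      by_cases h1 : x ∈ Cs (S : Subgroup G) a₁
      · rcases (mem_cs_cases h.card hv₁S hv₁Z).1 (hA₁.symm ▸ h1) with e | e
        · exact ⟨1, one_mem _, by simpa using e⟩
        · exact ⟨v₁, hv₁D, e⟩
      by_cases h2 : x ∈ Cs (S : Subgroup G) a₂
      · rcases (mem_cs_cases h.card hv₂S hv₂Z).1 (hA₂.symm ▸ h2) with e | e
        · exact ⟨1, one_mem _, by simpa using e⟩
        · exact ⟨v₂, hv₂D, e⟩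
      · exact ⟨w, mul_mem hv₁D hv₂D, hthird x hx h1 h2⟩
    set z := d⁻¹ * x with hz
    have hxe : x = d * z := (mul_inv_cancel_left d x).symm
    have hcomm : ∀ {q}, q ∈ (S : Subgroup G) → q * z = z * q := fun {q} hq => (mem_Zs.1 hdx).2 q hq
    have hndS := conj_mem_of_mem_normalizer hn (hDS hd)
    have e : x⁻¹ * (n * x * n⁻¹) = (d⁻¹ * (n * d * n⁻¹)) * (z⁻¹ * (n * z * n⁻¹)) := by
      calc x⁻¹ * (n * x * n⁻¹) = z⁻¹ * (d⁻¹ * (n * d * n⁻¹)) * (n * z * n⁻¹) := by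
            rw [hxe]; group
        _ = (d⁻¹ * (n * d * n⁻¹)) * (z⁻¹ * (n * z * n⁻¹)) := by
            rw [show z⁻¹ * (d⁻¹ * (n * d * n⁻¹)) = d⁻¹ * (n * d * n⁻¹) * z⁻¹ by
              have := hcomm (mul_mem (inv_mem (hDS hd)) hndS)
              rw [eq_comm, eq_inv_mul_iff_mul_eq, ← mul_assoc, ← this]; group]
            group
    rw [e]
    exact mul_mem (hDT (mul_mem (inv_mem hd) (hND n hn d hd))) (hYT (hgen z hdx n hn))
  have hmov : ∀ {a v W}, a ∈ (S : Subgroup G) → a ∉ Z → MovedData (S : Subgroup G) c a v W → v ∈ D →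
      ∀ m ∈ normalizer (Cs (S : Subgroup G) a : Set G), ∀ x ∈ Cs (S : Subgroup G) a,
        x⁻¹ * (m * x * m⁻¹) ∈ T := by
    rintro a v W ha ha' ⟨hvA, hvZ, -, horb, horbv, hWZ, -, hdec, hinv⟩ hvD m hm x hx
    have hin : ∀ {y}, y = c ∨ y = v ∨ y = c * v → y ∈ D := fun e => by
      rcases e with rfl | rfl | rfl
      exacts [hcD, hvD, mul_mem hcD hvD]
    obtain ⟨d, hd, hd', hmd, hdx⟩ : ∃ d ∈ D, d ∈ Cs (S : Subgroup G) a ∧ m * d * m⁻¹ ∈ D ∧
        d⁻¹ * x ∈ W := by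
      have hz : ∀ z ∈ Z, ∃ e, (e = 1 ∨ e = c) ∧ e⁻¹ * z ∈ W := fun z hz => by
        rcases hdec z hz with e | e
        · exact ⟨1, Or.inl rfl, by simpa using e⟩
        · exact ⟨c, Or.inr rfl, by rwa [inv_eq_of_mul_eq_one_right h.c_sq]⟩
      have h1 : ∀ {e}, e = 1 ∨ e = c → e ∈ D ∧ e ∈ Cs (S : Subgroup G) a ∧ m * e * m⁻¹ ∈ D :=
        fun he => by
          rcases he with rfl | rfl
          · exact ⟨one_mem _, one_mem _, by simp⟩
          · exact ⟨hcD, h.c_mem_cs ha ha', hin (horb m hm)⟩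
      rcases (mem_cs_cases h.card hvA.1 hvZ).1 ((hsame ha ha' hvA hvZ).symm ▸ hx) with hxz | hxz
      · obtain ⟨e, he, hex⟩ := hz _ hxz
        obtain ⟨k1, k2, k3⟩ := h1 he
        exact ⟨e, k1, k2, k3, hex⟩
      · obtain ⟨e, he, hex⟩ := hz _ hxz
        obtain ⟨k1, k2, k3⟩ := h1 he
        refine ⟨v * e, mul_mem hvD k1, mul_mem hvA k2, ?_, by rwa [mul_inv_rev, mul_assoc]⟩
        rw [show m * (v * e) * m⁻¹ = (m * v * m⁻¹) * (m * e * m⁻¹) by group]
        exact mul_mem (hin (horbv m hm)) k3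
    set u := d⁻¹ * x with hu
    have hxe : x = d * u := (mul_inv_cancel_left d x).symm
    obtain ⟨hu', n, hn, hnu⟩ := hinv m hm u hdx
    have hcA : ∀ {p q}, p ∈ Cs (S : Subgroup G) a → q ∈ Cs (S : Subgroup G) a → p * q = q * p :=
      fun hp hq => cs_comm h.card ha ha' hp hq
    have e : x⁻¹ * (m * x * m⁻¹) = (d⁻¹ * (m * d * m⁻¹)) * (u⁻¹ * (m * u * m⁻¹)) := by
      calc x⁻¹ * (m * x * m⁻¹) = u⁻¹ * (d⁻¹ * (m * d * m⁻¹)) * (m * u * m⁻¹) := by rw [hxe]; group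
        _ = _ := by
          rw [hcA (inv_mem ((zs_lt_cs ha ha').le (hWZ hdx)))
            (mul_mem (inv_mem hd') (conj_mem_of_mem_normalizer hm hd')), mul_assoc]
    rw [e]
    refine mul_mem (hDT (mul_mem (inv_mem hd) hmd)) (hYT ?_)
    rw [← hnu]
    exact hgen u (hWZ hdx) n hn
  have hall : (S : Subgroup G) ≤ T := le_of_rel hperf S T fun x hx g hg =>
    h.rel_of_local (fun p q => p⁻¹ * q ∈ T)
      ⟨fun p => by rw [inv_mul_cancel]; exact one_mem _,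
        fun {p q} e => by simpa [mul_assoc] using inv_mem e,
        fun {p q r} e e' => by simpa [mul_assoc] using mul_mem e e'⟩ hNT
      (fun a ha ha' m hm x hx => by
        rcases hcase a ha ha' with e | e | e
        · rw [e] at hm hx
          exact hmov ha₁ ha₁' ⟨hv₁A, hv₁Z, hv₁sq, horb₁, horbv₁, hW₁Z, hcW₁, hdec₁, hinv₁⟩ hv₁D m hm x hx
        · rw [e] at hm hx
          exact hmov ha₂ ha₂' ⟨hv₂A, hv₂Z, hv₂sq, horb₂, horbv₂, hW₂Z, hcW₂, hdec₂, hinv₂⟩ hv₂D m hm x hx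
        · obtain ⟨n, hn, he⟩ := e m hm
          rw [← he x hx]
          exact hNT n hn x hx.1) hx hg
  -- both factors are strongly closed
  have hclosed : ∀ U : Subgroup G, U ≤ (S : Subgroup G) →
      (∀ n ∈ normalizer ((S : Subgroup G) : Set G), ∀ x ∈ U, n * x * n⁻¹ ∈ U) →
      (∀ m ∈ normalizer (Cs (S : Subgroup G) a₁ : Set G), ∀ x ∈ Cs (S : Subgroup G) a₁, x ∈ U →
        m * x * m⁻¹ ∈ U) →
      (∀ m ∈ normalizer (Cs (S : Subgroup G) a₂ : Set G), ∀ x ∈ Cs (S : Subgroup G) a₂, x ∈ U →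
        m * x * m⁻¹ ∈ U) →
      IsStronglyClosed U (S : Subgroup G) := by
    refine fun U hU hUN hU1 hU2 => ⟨hU, fun x hx g hg => ?_⟩
    refine (h.rel_of_local (fun p q => p ∈ U ↔ q ∈ U)
      ⟨fun _ => Iff.rfl, fun e => e.symm, fun e e' => e.trans e'⟩ ?_ ?_ (hU hx) hg).1 hx
    · exact fun n hn y _ => ⟨hUN n hn y, fun hy => by
        simpa [mul_assoc] using hUN n⁻¹ (inv_mem hn) _ hy⟩
    · intro a ha ha' m hm y hy
      have both : ∀ {B : Subgroup G}, (∀ m ∈ normalizer (B : Set G), ∀ x ∈ B, x ∈ U → m * x * m⁻¹ ∈ U) →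
          m ∈ normalizer (B : Set G) → y ∈ B → (y ∈ U ↔ m * y * m⁻¹ ∈ U) := fun hB hm hy =>
        ⟨hB m hm y hy, fun h' => by
          simpa [mul_assoc] using hB m⁻¹ (inv_mem hm) _ (conj_mem_of_mem_normalizer hm hy) h'⟩
      rcases hcase a ha ha' with e | e | e
      · exact both hU1 (e ▸ hm) (e ▸ hy)
      · exact both hU2 (e ▸ hm) (e ▸ hy)
      · obtain ⟨n, hn, he⟩ := e m hm
        rw [← he y hy]
        exact ⟨hUN n hn y, fun hy' => by simpa [mul_assoc] using hUN n⁻¹ (inv_mem hn) _ hy'⟩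
  have hDcl : IsStronglyClosed D (S : Subgroup G) := hclosed D hDS hND
    (fun m hm x hxA hxD => mem_sup_left (hN₁ m hm x (hDA₁ x hxD hxA)))
    (fun m hm x hxA hxD => hV₂D (hN₂ m hm x (hDA₂ x hxD hxA)))
  have hYcl : IsStronglyClosed Y (S : Subgroup G) := hclosed Y (fun y hy => (hYZ hy).1) hNY
    (fun m hm x _ hxY => by
      obtain ⟨-, n, hn, e⟩ := hinv₁ m hm x (hYW₁ hxY)
      rw [← e]; exact hNY n hn x hxY)
    (fun m hm x _ hxY => by
      obtain ⟨-, n, hn, e⟩ := hinv₂ m hm x (hYW₂ hxY)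
      rw [← e]; exact hNY n hn x hxY)
  have hdisj : D ⊓ Y = ⊥ := by
    rw [eq_bot_iff]
    rintro x ⟨hxD, hxY⟩
    rcases hDZ x hxD (hYZ hxY) with e | e
    · exact e
    · exact absurd (hYW₁ (e ▸ hxY)) hcW₁
  rcases hPF S D Y hDcl hYcl (fun p hp q hq => (mem_Zs.1 (hYZ hq)).2 p (hDS hp)) hdisj with e | e
  · exact absurd (mem_bot.1 (e ▸ hcD)) h.c_ne
  have hSD : (S : Subgroup G) = D :=
    le_antisymm (hall.trans (by rw [hT, e, sup_bot_eq])) hDS
  have hord : orderOf w = 2 ^ 2 := by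
    refine orderOf_eq_prime_pow (p := 2) (n := 1) ?_ ?_
    · rw [pow_one, pow_two, hw2]; exact h.c_ne
    · rw [show (2 : ℕ) ^ (1 + 1) = 2 * 2 by norm_num, pow_mul, pow_two w, hw2, pow_two, h.c_sq]
  have hdih : Fusion.Dihedral.DihedralGen (S : Subgroup G) w v₁ 2 := by
    refine ⟨le_rfl, hord, hv₁sq, ?_, ?_⟩
    · rw [hw, mul_inv_rev, hv₂i, hv₁i, ← mul_assoc, hv₁sq, one_mul]
    · have hwz : w ∈ zpowers w ⊔ zpowers v₁ := mem_sup_left (mem_zpowers w)
      have hvz : v₁ ∈ zpowers w ⊔ zpowers v₁ := mem_sup_right (mem_zpowers v₁)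
      rw [hSD]
      refine le_antisymm (sup_le (fun x hx => ?_) (zpowers_le.2 ?_))
        (sup_le (zpowers_le.2 (mul_mem hv₁D hv₂D)) (zpowers_le.2 hv₁D))
      · have hcz' : c ∈ zpowers w ⊔ zpowers v₁ := hw2 ▸ mul_mem hwz hwz
        rcases (hV₁ x).1 hx with rfl | rfl | rfl | rfl
        exacts [one_mem _, hcz', hvz, mul_mem hcz' hvz]
      · simpa [hw] using mul_mem (inv_mem hvz) hwz
  exact RankOneP.nonempty_dihedral hdih

end Cfsg.Agent.IndexFour
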