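import Cfsg.Agent.Lib.IndexFour.Abelian
import Cfsg.Agent.Lib.GW.Assembly
import Cfsg.Agent.Lib.ProductFusion.Main
import Cfsg.Agent.Lib.Schur.Basic
import Cfsg.Agent.S2116
import Mathlib.GroupTheory.Transfer
import Mathlib.GroupTheory.SpecificGroups.KleinFour

/-!
# Quasisimple groups with a Sylow 2-subgroup whose centre has index four

Such a Sylow 2-subgroup has order 8 and the central quotient has dihedral Sylow 2-subgroups, so the
theorem of Gorenstein and Walter applies.
-/

set_option autoImplicit false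

namespace Cfsg.Agent.IndexFour

open Subgroup Cfsg

universe u

/-- Product fusion in a nonabelian simple group. -/
theorem disjointClosed_of_oddOrder (hFT : FTConsumers.OddOrder.{u}) (X : Type u) [Group X] [Finite X]
    [IsSimpleGroup X] (hX : ¬ IsMulCommutative X) : DisjointClosed X := by
  intro S A B hA hB hAB hdisj
  by_contra hno
  push Not at hno
  have htop : ∀ H : Subgroup X, H ≠ ⊥ → normalClosure (H : Set X) = ⊤ := fun H hH =>
    (IsSimpleGroup.eq_bot_or_eq_top_of_normal _ normalClosure_normal).resolve_left fun e =>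
      hH (le_bot_iff.1 (e ▸ subset_normalClosure))
  have h := ProductFusion.commutator_le hFT (P := S) ⟨hA, hB, hAB, hdisj⟩
  rw [htop A hno.1, htop B hno.2] at h
  have hperf : ⁅(⊤ : Subgroup X), (⊤ : Subgroup X)⁆ = (⊤ : Subgroup X) := by
    rcases IsSimpleGroup.eq_bot_or_eq_top_of_normal (⁅(⊤ : Subgroup X), (⊤ : Subgroup X)⁆) inferInstance with e | e
    · refine absurd ⟨⟨fun a b => ?_⟩⟩ hX
      exact commutatorElement_eq_one_iff_mul_comm.1
        (mem_bot.1 (e ▸ commutator_mem_commutator (mem_top a) (mem_top b)))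
    · exact e
  rw [hperf, top_le_iff] at h
  have hcop : (Nat.card (oddCore X)).Coprime 2 := PCore.coprime_card_pPrimeCore
  rw [h, Subgroup.card_top, Nat.coprime_comm, Nat.prime_two.coprime_iff_not_dvd] at hcop
  haveI : Fact (Nat.Prime 2) := ⟨Nat.prime_two⟩
  refine hno.1 (eq_bot_iff.2 fun a ha => ?_)
  obtain ⟨k, hk⟩ := S.2 ⟨a, hA.1 ha⟩
  rcases Nat.eq_zero_or_pos k with rfl | hk0
  · rw [pow_zero, pow_one] at hk
    exact mem_bot.2 (congrArg Subtype.val hk)
  obtain ⟨l, hl, hl'⟩ := (Nat.dvd_prime_pow Nat.prime_two).1 (orderOf_dvd_of_pow_eq_one hk)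
  rw [Subgroup.orderOf_mk] at hl'
  rcases l with _ | l
  · exact mem_bot.2 (orderOf_eq_one_iff.1 (by rw [hl', pow_zero]))
  · exact absurd ((dvd_pow_self 2 l.succ_ne_zero).trans (hl' ▸ orderOf_dvd_natCard a)) hcop

variable {G : Type*} [Group G]

theorem card_zs (S : Subgroup G) : Nat.card (Zs S) = Nat.card (center S) := by
  have h : Zs S = (center S).map S.subtype := by
    ext x
    rw [mem_Zs]
    constructor
    · rintro ⟨hx, h⟩
      exact ⟨⟨x, hx⟩, mem_center_iff.2 fun y => Subtype.ext (h y y.2), rfl⟩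
    · rintro ⟨z, hz, rfl⟩
      exact ⟨z.2, fun y hy => congrArg Subtype.val (mem_center_iff.1 hz ⟨y, hy⟩)⟩
  rw [h, card_map_of_injective S.subtype_injective]

variable [Finite G]

/-- In a perfect group the central elements of a Sylow subgroup lie in its derived subgroup. -/
theorem mem_commutator_of_central (hperf : _root_.commutator G = ⊤) {p : ℕ} [Fact p.Prime] (P : Sylow p G)
    {z : G} (hz : z ∈ center G) (hzP : z ∈ (P : Subgroup G)) :
    (⟨z, hzP⟩ : (P : Subgroup G)) ∈ _root_.commutator (P : Subgroup G) := by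
  set ϕ : (P : Subgroup G) →* Abelianization (P : Subgroup G) := Abelianization.of
  have hkey : ∀ (k : ℕ) (g₀ : G), g₀⁻¹ * z ^ k * g₀ ∈ (P : Subgroup G) →
      g₀⁻¹ * z ^ k * g₀ = z ^ k := fun k g₀ _ => by
    rw [mul_assoc, ← mem_center_iff.1 (pow_mem hz k) g₀, inv_mul_cancel_left]
  have h1 : MonoidHom.transfer ϕ z = 1 :=
    Abelianization.commutator_subset_ker _ (hperf ▸ mem_top z)
  rw [MonoidHom.transfer_eq_pow ϕ z hkey] at h1
  have h2 : (⟨z ^ (P : Subgroup G).index, pow_mem hzP _⟩ : (P : Subgroup G)) ∈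
      _root_.commutator (P : Subgroup G) := (QuotientGroup.eq_one_iff _).1 h1
  obtain ⟨k, hk⟩ := P.2 ⟨z, hzP⟩
  have hcop : Nat.Coprime (P : Subgroup G).index (orderOf (⟨z, hzP⟩ : (P : Subgroup G))) :=
    Nat.Coprime.coprime_dvd_right (orderOf_dvd_of_pow_eq_one hk) (Nat.Coprime.pow_right _
      (Nat.coprime_comm.1 ((Fact.out : p.Prime).coprime_iff_not_dvd.2 P.not_dvd_index)))
  obtain ⟨m, hm⟩ := exists_pow_eq_self_of_coprime hcop
  rw [← hm]
  exact pow_mem h2 m

end Cfsg.Agent.IndexFour

namespace Cfsg.Agent.IndexFour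

open Subgroup Cfsg

universe u

variable {G : Type u} [Group G] [Finite G]

/-- The classification of quasisimple groups with a Sylow 2-subgroup with centre of index four, from
the Feit-Thompson and Gorenstein-Walter theorems. -/
theorem classify (hFT : FTConsumers.OddOrder.{u}) (h2 : GW.PartTwo.{u}) (hq : Cfsg.IsQuasisimple G)
    (P : Sylow 2 G) (hna : ¬ IsMulCommutative (P : Subgroup G))
    (hZ : (Subgroup.center (P : Subgroup G)).index = 4) :
    Nat.card (P : Subgroup G) = 8 ∧
      (Nonempty (G ≃* alternatingGroup (Fin 7)) ∨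
       (Nat.card (Subgroup.center G) = 3 ∧ Nonempty (G ⧸ Subgroup.center G ≃* alternatingGroup (Fin 7))) ∨
       ∃ (F : Type) (_ : Field F) (_ : Fintype F), Odd (Fintype.card F) ∧
        Nonempty (G ⧸ Subgroup.center G ≃* Matrix.ProjectiveSpecialLinearGroup (Fin 2) F)) := by
  classical
  haveI : Fact (Nat.Prime 2) := ⟨Nat.prime_two⟩
  haveI := hq.1
  haveI := hq.2
  have hperf : _root_.commutator G = ⊤ := Group.IsPerfect.commutator_eq_top
  set π := QuotientGroup.mk' (center G) with hπ
  have hsurj : Function.Surjective π := QuotientGroup.mk'_surjective _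
  have hker : ∀ x : G, π x = 1 ↔ x ∈ center G := fun x => QuotientGroup.eq_one_iff x
  have hQ : ¬ IsMulCommutative (G ⧸ center G) := fun h => by
    have hle : _root_.commutator G ≤ center G := by
      rw [commutator_def, commutator_le]
      intro x _ y _
      rw [← hker, map_commutatorElement, commutatorElement_eq_one_iff_mul_comm]
      exact h.is_comm.comm _ _
    refine hna ⟨⟨fun a b => Subtype.ext ?_⟩⟩
    exact mem_center_iff.1 (hle (hperf ▸ mem_top (b : G))) a
  have hPF : DisjointClosed (G ⧸ center G) := disjointClosed_of_oddOrder hFT _ hQ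
  have hcard : Nat.card (P : Subgroup G) = 4 * Nat.card (Zs (P : Subgroup G)) := by
    rw [card_zs, ← hZ, mul_comm, Subgroup.card_mul_index]
  obtain ⟨c, hc⟩ := exists_quad (by
    by_contra hno
    push Not at hno
    exact hna ⟨⟨fun a b => Subtype.ext (hno a a.2 b b.2)⟩⟩) hcard
  have hcP : c ∈ (P : Subgroup G) := (mem_Zs.1 hc.c_mem).1
  have hcomm2 : ∀ z ∈ center G, z ∈ (P : Subgroup G) → z = 1 ∨ z = c := by
    intro z hz hzP
    have hle : _root_.commutator (P : Subgroup G) ≤ (zpowers c).subgroupOf (P : Subgroup G) := by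
      rw [commutator_def, commutator_le]
      intro x _ y _
      rw [mem_subgroupOf, commutatorElement_def]
      push_cast
      rcases hc.comm y y.2 x x.2 with e | e <;> rw [e]
      · rw [mul_inv_cancel]; exact one_mem _
      · rw [(mem_Zs.1 hc.c_mem).2 y y.2, mul_inv_cancel_right]
        exact mem_zpowers c
    obtain ⟨k, hk⟩ := mem_subgroupOf.1 (hle (mem_commutator_of_central hperf P hz hzP))
    have hk' : c ^ k = z := hk
    rcases Int.even_or_odd k with ⟨l, rfl⟩ | ⟨l, rfl⟩
    · left
      rw [← hk', zpow_add, ← (Commute.refl c).mul_zpow, hc.c_sq, one_zpow]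
    · right
      rw [← hk', zpow_add, two_mul, zpow_add, ← (Commute.refl c).mul_zpow, hc.c_sq, one_zpow, one_mul,
        zpow_one]
  set S : Sylow 2 (G ⧸ center G) := P.mapSurjective hsurj with hS
  have hScoe : (S : Subgroup (G ⧸ center G)) = (P : Subgroup G).map π := Sylow.coe_mapSurjective hsurj P
  have hmemS : ∀ {x : G}, x ∈ (P : Subgroup G) → π x ∈ (S : Subgroup (G ⧸ center G)) := fun hx => by
    rw [hScoe]; exact mem_map_of_mem π hx
  have hd : ∀ n : ℕ, 2 ≤ n → Nonempty ((S : Subgroup (G ⧸ center G)) ≃* DihedralGroup n) →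
      GW.IsKnown (G ⧸ center G) := fun n hn ⟨e⟩ =>
    GW.isKnown_of_simple h2 _ hq.2 fun T => ⟨n, hn, ⟨(T.equiv S).trans e⟩⟩
  by_cases hcz : c ∈ center G
  · -- the image is abelian
    have hπc : π c = 1 := (hker c).2 hcz
    have hab : IsMulCommutative (S : Subgroup (G ⧸ center G)) := ⟨⟨fun a b => Subtype.ext (by
      have ha := a.2
      have hb := b.2
      simp only [hScoe, mem_map] at ha hb
      obtain ⟨x, hx, hxa⟩ := ha
      obtain ⟨y, hy, hyb⟩ := hb
      show (a : G ⧸ center G) * b = b * a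
      rw [← hxa, ← hyb, ← map_mul, ← map_mul]
      rcases hc.comm x hx y hy with e | e
      · rw [conj_eq_self_iff.1 e]
      · rw [mul_inv_eq_iff_eq_mul.1 e, map_mul, map_mul, map_mul, hπc, mul_one])⟩⟩
    have hhalf : ∀ H : Subgroup G, c ∈ H → H ≤ (P : Subgroup G) →
        Nat.card H = 2 * Nat.card (H.map π) := by
      intro H hcH hHP
      have h1 := Subgroup.card_mul_index (π.comp H.subtype).ker
      rw [index_ker, MonoidHom.range_comp, Subgroup.range_subtype] at h1
      rw [← h1]
      congr 1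
      rw [← MonoidHom.comap_ker, QuotientGroup.ker_mk']
      show Nat.card ((center G).subgroupOf H) = 2
      have h2 : (center G).subgroupOf H = zpowers (⟨c, hcH⟩ : H) := by
        refine le_antisymm (fun z hz => ?_) (zpowers_le.2 (mem_subgroupOf.2 hcz))
        rcases hcomm2 z (mem_subgroupOf.1 hz) (hHP z.2) with e | e
        · rw [show z = 1 from Subtype.ext e]; exact one_mem _
        · rw [show z = ⟨c, hcH⟩ from Subtype.ext e]; exact mem_zpowers _
      rw [h2, Nat.card_zpowers, Subgroup.orderOf_mk]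
      exact orderOf_eq_prime (by rw [pow_two]; exact hc.c_sq) hc.c_ne
    set R := (Zs (P : Subgroup G)).map π with hR
    have hPS : Nat.card (P : Subgroup G) = 2 * Nat.card (S : Subgroup (G ⧸ center G)) := by
      rw [hScoe]; exact hhalf _ hcP le_rfl
    have hR4 : Nat.card (S : Subgroup (G ⧸ center G)) = 4 * Nat.card R := by
      have := hhalf _ hc.c_mem inf_le_left
      rw [← hR] at this
      omega
    have hS4 : Nat.card (S : Subgroup (G ⧸ center G)) = 4 := by
      refine card_eq_four hQ hPF S hab R (hScoe ▸ map_mono inf_le_left) ?_ hR4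
      rintro n hn _ ⟨z, hz, rfl⟩
      obtain ⟨g, rfl⟩ := hsurj n
      have h1 := conj_mem_of_mem_normalizer hn (hmemS (mem_Zs.1 hz).1)
      simp only [hScoe, mem_map] at h1
      obtain ⟨w, hw, hwe⟩ := h1
      have hk : w * (g * z * g⁻¹)⁻¹ ∈ center G := by
        rw [← hker, map_mul, map_inv, map_mul, map_mul, map_inv, hwe, mul_inv_cancel]
      refine ⟨w, mem_Zs.2 ⟨hw, fun y hy => ?_⟩, hwe⟩
      have h3 := inv_conj_mem hn (hmemS hy)
      simp only [hScoe, mem_map] at h3
      obtain ⟨y', hy', hye⟩ := h3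
      have hk' : y'⁻¹ * (g⁻¹ * y * g) ∈ center G := by
        rw [← hker, map_mul, map_inv, map_mul, map_mul, map_inv, hye, inv_mul_cancel]
      have h5 : Commute (g⁻¹ * y * g) z := by
        have h := (show Commute y' z from (mem_Zs.1 hz).2 y' hy').mul_left
          ((show Commute z (y'⁻¹ * (g⁻¹ * y * g)) from mem_center_iff.1 hk' z).symm)
        rwa [mul_inv_cancel_left] at h
      have h6 : Commute y (g * z * g⁻¹) := by
        simpa [mul_assoc] using h5.map (MulAut.conj g).toMonoidHom
      have h7 := (show Commute y (w * (g * z * g⁻¹)⁻¹) from mem_center_iff.1 hk y).mul_right h6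
      rwa [inv_mul_cancel_right] at h7
    have hR1 : R = ⊥ := Subgroup.card_eq_one.1 (by omega)
    have hexp : ∀ s : (S : Subgroup (G ⧸ center G)), s ^ 2 = 1 := fun s => by
      have hs := s.2
      simp only [hScoe, mem_map] at hs
      obtain ⟨y, hy, hys⟩ := hs
      refine Subtype.ext ?_
      rw [SubgroupClass.coe_pow, ← hys, ← map_pow, pow_two, OneMemClass.coe_one, ← mem_bot, ← hR1]
      exact mem_map_of_mem π (sq_mem_zs hcard hy)
    have hne : Nontrivial (S : Subgroup (G ⧸ center G)) :=
      Finite.one_lt_card_iff_nontrivial.1 (by omega)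
    haveI : IsKleinFour (S : Subgroup (G ⧸ center G)) := ⟨hS4, by
      rcases (Nat.dvd_prime Nat.prime_two).1
        (Monoid.exponent_dvd_of_forall_pow_eq_one hexp) with e | e
      · exact absurd (Monoid.exp_eq_one_iff.1 e) (not_subsingleton_iff_nontrivial.2 hne)
      · exact e⟩
    refine ⟨by omega, ?_⟩
    rcases hd 2 le_rfl IsKleinFour.nonempty_mulEquiv with ⟨F, i, i', ho, -, he⟩ | ⟨⟨e⟩⟩
    · exact Or.inr (Or.inr ⟨F, i, i', ho, he⟩)
    · exfalso
      have h := (S : Subgroup (G ⧸ center G)).card_mul_index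
      rw [hS4, Nat.card_congr e.toEquiv, nat_card_alternatingGroup, Nat.card_fin,
        show (Nat.factorial 7) / 2 = 4 * 630 from rfl] at h
      exact S.not_dvd_index ⟨315, by omega⟩
  · -- the image is isomorphic
    have hinj : ∀ x ∈ (P : Subgroup G), π x = 1 → x = 1 := fun x hx h =>
      (hcomm2 x ((hker x).1 h) hx).resolve_right fun e => hcz (e ▸ (hker x).1 h)
    set f : (P : Subgroup G) →* (S : Subgroup (G ⧸ center G)) :=
      (π.comp (P : Subgroup G).subtype).codRestrict _ (fun x => hmemS x.2) with hf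
    have hfb : Function.Bijective f := by
      refine ⟨(injective_iff_map_eq_one f).2 fun x hx =>
        Subtype.ext (hinj x x.2 (congrArg Subtype.val hx)), fun s => ?_⟩
      have hs := s.2
      simp only [hScoe, mem_map] at hs
      obtain ⟨x, hx, hxs⟩ := hs
      exact ⟨⟨x, hx⟩, Subtype.ext hxs⟩
    set e := MulEquiv.ofBijective f hfb with he
    have hPS := Nat.card_congr e.toEquiv
    have hquad : Quad (S : Subgroup (G ⧸ center G)) (π c) := by
      refine ⟨?_, mem_Zs.2 ⟨hmemS hcP, fun y hy => ?_⟩, by rw [← map_mul, hc.c_sq, map_one],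
        fun h => hc.c_ne (hinj c hcP h), fun a ha b hb => ?_⟩
      · rw [card_zs, ← Nat.card_congr (Subgroup.centerCongr e).toEquiv, ← card_zs, ← hPS]
        exact hcard
      · simp only [hScoe, mem_map] at hy
        obtain ⟨y, hy', rfl⟩ := hy
        rw [← map_mul, (mem_Zs.1 hc.c_mem).2 y hy', map_mul]
      · simp only [hScoe, mem_map] at ha hb
        obtain ⟨x, hx, rfl⟩ := ha
        obtain ⟨y, hy, rfl⟩ := hb
        rcases hc.comm x hx y hy with e | e
        · left; rw [← map_inv, ← map_mul, ← map_mul, e]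
        · right; rw [← map_inv, ← map_mul, ← map_mul, e, map_mul]
    have hdih := hquad.nonempty_dihedral hQ hPF
    have hP8 : Nat.card (P : Subgroup G) = 8 := by
      obtain ⟨d⟩ := hdih
      rw [hPS, Nat.card_congr d.toEquiv, DihedralGroup.nat_card]
    refine ⟨hP8, ?_⟩
    rcases hd 4 (by norm_num) hdih with ⟨F, i, i', ho, -, he⟩ | ⟨⟨d⟩⟩
    · exact Or.inr (Or.inr ⟨F, i, i', ho, he⟩)
    have h6 : Nat.card (center G) ∣ 6 := by
      set σ : G →* alternatingGroup (Fin 7) := d.toMonoidHom.comp π with hσ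
      have hσk : σ.ker = center G := by
        ext x
        rw [MonoidHom.mem_ker, hσ, MonoidHom.comp_apply, MulEquiv.coe_toMonoidHom, MulEquiv.map_eq_one_iff,
          hker]
      obtain ⟨g, hg⟩ := Schur.exists_surjective_of_central (S2116.result 7 (Or.inr rfl)) σ
        (d.surjective.comp hsurj) hσk.le
      have h := Subgroup.card_dvd_of_surjective g hg
      rw [hσk, hperf, inf_top_eq] at h
      simpa using h
    have hodd : ¬ 2 ∣ Nat.card (center G) := fun h => by
      obtain ⟨⟨z, hz⟩, hzo⟩ := exists_prime_orderOf_dvd_card' (G := center G) 2 h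
      rw [Subgroup.orderOf_mk] at hzo
      have hp : IsPGroup 2 (zpowers z) := IsPGroup.of_card (n := 1) (by
        rw [Nat.card_zpowers, hzo, pow_one])
      obtain ⟨T, hT⟩ := hp.exists_le_sylow
      obtain ⟨g, hg⟩ := MulAction.exists_smul_eq G P T
      have hzT := hT (mem_zpowers z)
      rw [← hg, Sylow.coe_subgroup_smul, mem_pointwise_smul_iff_inv_smul_mem] at hzT
      have hzP : z ∈ (P : Subgroup G) := by
        simp only [MulAut.smul_def, MulAut.conj_inv_apply] at hzT
        rwa [mul_assoc, ← mem_center_iff.1 hz g, inv_mul_cancel_left] at hzT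
      rcases hcomm2 z hz hzP with rfl | rfl
      · rw [orderOf_one] at hzo; omega
      · exact hcz hz
    have h13 : Nat.card (center G) = 1 ∨ Nat.card (center G) = 3 := by
      have := Nat.le_of_dvd (by norm_num) h6
      interval_cases hh : Nat.card (center G) <;> omega
    rcases h13 with h | h
    · exact Or.inl ⟨((QuotientGroup.quotientBot (G := G)).symm.trans
        (QuotientGroup.quotientMulEquivOfEq (Subgroup.card_eq_one.1 h).symm)).trans d⟩
    · exact Or.inr (Or.inl ⟨h, ⟨d⟩⟩)

end Cfsg.Agent.IndexFour
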