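import Cfsg.Agent.Lib.IndexFour.Transvection
import Mathlib.GroupTheory.Sylow
import Mathlib.GroupTheory.IndexNormal
import Mathlib.Algebra.Group.Subgroup.Map

/-!
# Sylow 2-subgroups whose centre has index four

`Quad S c`: the centre `Z` of the Sylow 2-subgroup `S` has index 4 and `c` is the commutator of `S`.
The automiser of a maximal abelian `A = C_S(a)` either fixes `c` and is induced by `N(S)`, or `c` has
an orbit `{c, v, c v}` and `A = ⟨c, v⟩ × W` with `W` invariant.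
-/

set_option autoImplicit false
set_option linter.unusedSectionVars false

namespace Cfsg.Agent.IndexFour

open Subgroup

variable {G : Type*} [Group G]

/-- The centre of a subgroup, as a subgroup of the ambient group. -/
def Zs (S : Subgroup G) : Subgroup G := S ⊓ centralizer (S : Set G)

/-- The centraliser in `S` of an element. -/
def Cs (S : Subgroup G) (a : G) : Subgroup G := S ⊓ centralizer ({a} : Set G)

theorem mem_Zs {S : Subgroup G} {x : G} : x ∈ Zs S ↔ x ∈ S ∧ ∀ y ∈ S, y * x = x * y :=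
  Iff.and Iff.rfl mem_centralizer_iff

theorem mem_Cs {S : Subgroup G} {a x : G} : x ∈ Cs S a ↔ x ∈ S ∧ x * a = a * x :=
  Iff.and Iff.rfl mem_centralizer_singleton_iff

theorem cs_le {S : Subgroup G} {a : G} : Cs S a ≤ S := inf_le_left

theorem mem_normalizer_of_forall [Finite G] {H : Subgroup G} {n : G}
    (h : ∀ x ∈ H, n * x * n⁻¹ ∈ H) : n ∈ normalizer (H : Set G) := by
  have hle : H.map (MulAut.conj n).toMonoidHom ≤ H := by
    rintro _ ⟨x, hx, rfl⟩
    exact h x hx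
  have heq := eq_of_le_of_card_ge hle
    (card_map_of_injective (MulAut.conj n).injective).ge
  rw [Subgroup.mem_normalizer_iff]
  intro x
  refine ⟨h x, fun hx => ?_⟩
  obtain ⟨y, hy, e⟩ := (heq.symm ▸ hx : n * x * n⁻¹ ∈ H.map (MulAut.conj n).toMonoidHom)
  have e' : n * y * n⁻¹ = n * x * n⁻¹ := e
  have : y = x := by simpa using e'
  exact this ▸ hy

theorem conj_mem_of_mem_normalizer {H : Subgroup G} {n x : G} (hn : n ∈ normalizer (H : Set G))
    (hx : x ∈ H) : n * x * n⁻¹ ∈ H := (mem_normalizer_iff.1 hn x).1 hx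

theorem inv_conj_mem {H : Subgroup G} {n x : G} (hn : n ∈ normalizer (H : Set G)) (hx : x ∈ H) :
    n⁻¹ * x * n ∈ H := by
  have := conj_mem_of_mem_normalizer (inv_mem hn) hx
  rwa [inv_inv] at this

theorem conj_eq_self_iff {g x : G} : g * x * g⁻¹ = x ↔ g * x = x * g := mul_inv_eq_iff_eq_mul

theorem Zs_conj {S : Subgroup G} {n z : G} (hn : n ∈ normalizer (S : Set G)) (hz : z ∈ Zs S) :
    n * z * n⁻¹ ∈ Zs S := by
  rw [mem_Zs] at hz ⊢
  refine ⟨conj_mem_of_mem_normalizer hn hz.1, fun y hy => ?_⟩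
  have h := hz.2 _ (inv_conj_mem hn hy)
  calc y * (n * z * n⁻¹) = n * ((n⁻¹ * y * n) * z) * n⁻¹ := by group
    _ = n * (z * (n⁻¹ * y * n)) * n⁻¹ := by rw [h]
    _ = n * z * n⁻¹ * y := by group

/-- `S` has centre of index 4, with commutator `c`. -/
structure Quad (S : Subgroup G) (c : G) : Prop where
  card : Nat.card S = 4 * Nat.card (Zs S)
  c_mem : c ∈ Zs S
  c_sq : c * c = 1
  c_ne : c ≠ 1
  comm : ∀ x ∈ S, ∀ y ∈ S, y * x * y⁻¹ = x ∨ y * x * y⁻¹ = x * c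

section Basic

variable [Finite G] {S : Subgroup G}

theorem zs_lt_cs {a : G} (ha : a ∈ S) (ha' : a ∉ Zs S) : Zs S < Cs S a := by
  refine lt_of_le_of_ne (fun z hz => mem_Cs.2 ⟨hz.1, ((mem_Zs.1 hz).2 a ha).symm⟩) fun h => ha' ?_
  rw [h]
  exact mem_Cs.2 ⟨ha, rfl⟩

theorem card_cs (hcard : Nat.card S = 4 * Nat.card (Zs S)) {a : G} (ha : a ∈ S) (ha' : a ∉ Zs S) :
    Nat.card (Cs S a) = 2 * Nat.card (Zs S) := by
  have hlt := zs_lt_cs ha ha'
  obtain ⟨k, hk⟩ := Subgroup.card_dvd_of_le hlt.le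
  have hne : Cs S a ≠ S := fun h => ha' (mem_Zs.2 ⟨ha, fun y hy => (mem_Cs.1 (h.symm ▸ hy)).2⟩)
  have h1 : k ∣ 4 := by
    have := Subgroup.card_dvd_of_le (cs_le : Cs S a ≤ S)
    rw [hk, hcard, mul_comm 4] at this
    exact (mul_dvd_mul_iff_left Nat.card_pos.ne').1 this
  have h2 : k ≠ 1 := fun h => hlt.ne (eq_of_le_of_card_ge hlt.le (by rw [hk, h, mul_one]))
  have h3 : k ≠ 4 := fun h => hne (eq_of_le_of_card_ge cs_le (by rw [hk, h, hcard, mul_comm]))
  have := Nat.le_of_dvd (by norm_num) h1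
  interval_cases k <;> simp_all [mul_comm]

theorem mem_cs_cases (hcard : Nat.card S = 4 * Nat.card (Zs S)) {a x : G} (ha : a ∈ S)
    (ha' : a ∉ Zs S) : x ∈ Cs S a ↔ x ∈ Zs S ∨ a⁻¹ * x ∈ Zs S := by
  have hlt := zs_lt_cs ha ha'
  have haC : a ∈ Cs S a := mem_Cs.2 ⟨ha, rfl⟩
  constructor
  · intro hx
    by_cases hxZ : x ∈ Zs S
    · exact Or.inl hxZ
    have hidx : ((Zs S).subgroupOf (Cs S a)).index = 2 := by
      have h := Subgroup.card_mul_index ((Zs S).subgroupOf (Cs S a))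
      rw [Nat.card_congr (subgroupOfEquivOfLe hlt.le).toEquiv, card_cs hcard ha ha', mul_comm 2] at h
      exact mul_left_cancel₀ Nat.card_pos.ne' h
    right
    have h := (Subgroup.mul_mem_iff_of_index_two hidx (a := ⟨a, haC⟩⁻¹) (b := ⟨x, hx⟩)).2
      (iff_of_false (fun h => ha' (by simpa [mem_subgroupOf] using h))
        (fun h => hxZ (mem_subgroupOf.1 h)))
    exact mem_subgroupOf.1 h
  · rintro (h | h)
    · exact hlt.le h
    · simpa using mul_mem haC (hlt.le h)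

theorem cs_comm (hcard : Nat.card S = 4 * Nat.card (Zs S)) {a x y : G} (ha : a ∈ S)
    (ha' : a ∉ Zs S) (hx : x ∈ Cs S a) (hy : y ∈ Cs S a) : x * y = y * x := by
  rcases (mem_cs_cases hcard ha ha').1 hx with h | h
  · exact ((mem_Zs.1 h).2 y (cs_le hy)).symm
  · have h1 : a * y = y * a := (mem_Cs.1 hy).2.symm
    have h2 := (mem_Zs.1 h).2 y (cs_le hy)
    calc x * y = a * ((a⁻¹ * x) * y) := by group
      _ = (a * y) * (a⁻¹ * x) := by rw [← h2]; group
      _ = y * x := by rw [h1]; group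

theorem cs_eq (hcard : Nat.card S = 4 * Nat.card (Zs S)) {a x : G} (ha : a ∈ S)
    (ha' : a ∉ Zs S) (hx : x ∈ Cs S a) (hx' : x ∉ Zs S) : Cs S x = Cs S a := by
  refine (eq_of_le_of_card_ge (fun y hy => mem_Cs.2 ⟨cs_le hy, cs_comm hcard ha ha' hy hx⟩) ?_).symm
  rw [card_cs hcard ha ha', card_cs hcard (cs_le hx) hx']

theorem relIndex_cs (hcard : Nat.card S = 4 * Nat.card (Zs S)) {a : G} (ha : a ∈ S)
    (ha' : a ∉ Zs S) : ((Cs S a).subgroupOf S).index = 2 := by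
  have h := Subgroup.card_mul_index ((Cs S a).subgroupOf S)
  rw [Nat.card_congr (subgroupOfEquivOfLe (cs_le : Cs S a ≤ S)).toEquiv,
    card_cs hcard ha ha', hcard] at h
  have h' : 2 * Nat.card (Zs S) * ((Cs S a).subgroupOf S).index = 2 * Nat.card (Zs S) * 2 := by
    rw [h]; ring
  exact mul_left_cancel₀ (mul_ne_zero two_ne_zero Nat.card_pos.ne') h'

theorem mul_mem_cs (hcard : Nat.card S = 4 * Nat.card (Zs S)) {a x y : G} (ha : a ∈ S)
    (ha' : a ∉ Zs S) (hx : x ∈ S) (hy : y ∈ S) :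
    x * y ∈ Cs S a ↔ (x ∈ Cs S a ↔ y ∈ Cs S a) := by
  simpa [mem_subgroupOf] using
    Subgroup.mul_mem_iff_of_index_two (relIndex_cs hcard ha ha') (a := ⟨x, hx⟩) (b := ⟨y, hy⟩)

theorem le_normalizer_cs (hcard : Nat.card S = 4 * Nat.card (Zs S)) {a : G} (ha : a ∈ S)
    (ha' : a ∉ Zs S) : S ≤ normalizer (Cs S a : Set G) := fun s hs =>
  mem_normalizer_of_forall fun x hx => by
    have h := (Subgroup.normal_of_index_eq_two (relIndex_cs hcard ha ha')).conj_mem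
      ⟨x, cs_le hx⟩ (mem_subgroupOf.2 hx) ⟨s, hs⟩
    exact mem_subgroupOf.1 h

theorem sq_mem_zs (hcard : Nat.card S = 4 * Nat.card (Zs S)) {s : G} (hs : s ∈ S) :
    s * s ∈ Zs S := by
  by_cases h : s ∈ Zs S
  · exact mul_mem h h
  rcases (mem_cs_cases hcard hs h).1 ((mul_mem_cs hcard hs h hs hs).2 Iff.rfl) with h' | h'
  · exact h'
  · rw [inv_mul_cancel_left] at h'
    exact absurd h' h

/-- The commutator of a non-abelian group with centre of index 4. -/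
theorem exists_quad (hna : ∃ x ∈ S, ∃ y ∈ S, x * y ≠ y * x)
    (hcard : Nat.card S = 4 * Nat.card (Zs S)) : ∃ c, Quad S c := by
  -- the commutator of a pair
  have key : ∀ x ∈ S, ∀ y ∈ S, x * y ≠ y * x →
      x⁻¹ * (y * x * y⁻¹) ∈ Zs S ∧ x⁻¹ * (y * x * y⁻¹) ≠ 1 ∧
        x⁻¹ * (y * x * y⁻¹) * (x⁻¹ * (y * x * y⁻¹)) = 1 ∧
        ∀ y' ∈ S, x * y' ≠ y' * x → y' * x * y'⁻¹ = y * x * y⁻¹ := by
    intro x hx y hy hxy
    have hx' : x ∉ Zs S := fun h => hxy ((mem_Zs.1 h).2 y hy).symm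
    set d := x⁻¹ * (y * x * y⁻¹) with hd
    have hyx : y * x * y⁻¹ ∈ Cs S x :=
      conj_mem_of_mem_normalizer (le_normalizer_cs hcard hx hx' hy) (mem_Cs.2 ⟨hx, rfl⟩)
    have hdZ : d ∈ Zs S := by
      rcases (mem_cs_cases hcard hx hx').1 hyx with h | h
      · refine absurd ?_ hx'
        have := Zs_conj (inv_mem (le_normalizer hy)) h
        simpa [mul_assoc] using this
      · exact h
    have e : y * x * y⁻¹ = x * d := by rw [hd, mul_inv_cancel_left]
    have hd1 : d ≠ 1 := fun h => hxy (by rw [h, mul_one, mul_inv_eq_iff_eq_mul] at e; exact e.symm)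
    have hy2 := (mem_Zs.1 (sq_mem_zs hcard hy)).2 x hx
    have hdy := (mem_Zs.1 hdZ).2 y hy
    have e2 : x = x * (d * d) := by
      calc x = (y * y) * x * (y * y)⁻¹ := by rw [← hy2, mul_inv_cancel_right]
        _ = y * (y * x * y⁻¹) * y⁻¹ := by group
        _ = y * (x * d) * y⁻¹ := by rw [e]
        _ = (y * x * y⁻¹) * (y * d * y⁻¹) := by group
        _ = x * (d * d) := by rw [e, hdy, mul_inv_cancel_right, mul_assoc]
    refine ⟨hdZ, hd1, left_eq_mul.1 e2, fun y' hy' hxy' => ?_⟩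
    have h1 : y⁻¹ * y' ∈ Cs S x := (mul_mem_cs hcard hx hx' (inv_mem hy) hy').2
      (iff_of_false (fun h => hxy ((mem_Cs.1 (by simpa using inv_mem h : y ∈ Cs S x)).2.symm))
        (fun h => hxy' (mem_Cs.1 h).2.symm))
    calc y' * x * y'⁻¹ = y * ((y⁻¹ * y') * x * (y⁻¹ * y')⁻¹) * y⁻¹ := by group
      _ = y * x * y⁻¹ := by rw [conj_eq_self_iff.2 (mem_Cs.1 h1).2]
  -- independence of the pair
  let d : G → G → G := fun x y => x⁻¹ * (y * x * y⁻¹)
  have hsymm : ∀ x ∈ S, ∀ y ∈ S, x * y ≠ y * x → d x y = d y x := by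
    intro x hx y hy hxy
    obtain ⟨hZ, -, hsq, -⟩ := key x hx y hy hxy
    have hy' : y⁻¹ * (d x y) * y = d x y := by
      rw [mul_assoc, show d x y * y = y * d x y from ((mem_Zs.1 hZ).2 y hy).symm,
        inv_mul_cancel_left]
    have hx' : x * d x y * x⁻¹ = d x y := conj_eq_self_iff.2 ((mem_Zs.1 hZ).2 x hx)
    calc d x y = (d x y)⁻¹ := (inv_eq_of_mul_eq_one_right hsq).symm
      _ = y⁻¹ * (x * (d x y) * x⁻¹)⁻¹ * y := by
          rw [hx', inv_eq_of_mul_eq_one_right hsq]; exact hy'.symm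
      _ = d y x := by simp only [d]; group
  obtain ⟨a, ha, b, hb, hab⟩ := hna
  have hconst : ∀ x ∈ S, ∀ y ∈ S, x * y ≠ y * x → d x y = d a b := by
    intro x hx y hy hxy
    obtain ⟨z, hz, hzx, hza⟩ : ∃ z ∈ S, x * z ≠ z * x ∧ a * z ≠ z * a := by
      by_contra hno
      push Not at hno
      by_cases h1 : x * b = b * x
      · have h2 : a * y = y * a := hno y hy hxy
        have h3 := hno (b * y) (mul_mem hb hy) fun h => hxy (by
          calc x * y = b⁻¹ * ((b * x) * y) := by group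
            _ = b⁻¹ * (x * (b * y)) := by rw [← h1, mul_assoc]
            _ = y * x := by rw [h]; group)
        exact hab (mul_right_cancel (b := y) (by rw [mul_assoc, h3, mul_assoc, ← h2, mul_assoc]))
      · exact hab (hno b hb h1)
    have e1 : d x y = d x z := by simp only [d]; rw [(key x hx y hy hxy).2.2.2 z hz hzx]
    have e2 : d a b = d a z := by simp only [d]; rw [(key a ha b hb hab).2.2.2 z hz hza]
    have e3 : d z x = d z a := by
      simp only [d]; rw [(key z hz x hx (Ne.symm hzx)).2.2.2 a ha (Ne.symm hza)]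
    rw [e1, e2, hsymm x hx z hz hzx, e3, hsymm z hz a ha (Ne.symm hza)]
  obtain ⟨h1, h2, h3, -⟩ := key a ha b hb hab
  refine ⟨d a b, hcard, h1, h3, h2, fun x hx y hy => ?_⟩
  by_cases hxy : x * y = y * x
  · exact Or.inl (conj_eq_self_iff.2 hxy.symm)
  · exact Or.inr (by rw [← hconst x hx y hy hxy]; simp only [d, mul_inv_cancel_left])

end Basic

/-- Conjugation by elements of the normaliser. -/
def aut (A : Subgroup G) : normalizer (A : Set G) →* MulAut A := A.normalizerMonoidHom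

theorem aut_apply {A : Subgroup G} (n : normalizer (A : Set G)) (a : A) :
    (aut A n a : G) = n * a * (n : G)⁻¹ := rfl

theorem aut_inv_apply {A : Subgroup G} (n : normalizer (A : Set G)) (a : A) :
    ((aut A n⁻¹ a : A) : G) = (n : G)⁻¹ * a * n := by
  rw [aut_apply, Subgroup.coe_inv, inv_inv]

namespace Quad

variable [Finite G] {S : Sylow 2 G} {c : G} (h : Quad (S : Subgroup G) c)
include h

theorem c_conj {n : G} (hn : n ∈ normalizer ((S : Subgroup G) : Set G)) : n * c * n⁻¹ = c := by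
  obtain ⟨a, ha, ha'⟩ : ∃ a ∈ (S : Subgroup G), a ∉ Zs (S : Subgroup G) := by
    by_contra hno
    push Not at hno
    have h1 : Nat.card (S : Subgroup G) ≤ Nat.card (Zs (S : Subgroup G)) :=
      Subgroup.card_le_of_le hno
    have := h.card
    have : 0 < Nat.card (Zs (S : Subgroup G)) := Nat.card_pos
    omega
  obtain ⟨b, hb, hab⟩ : ∃ b ∈ (S : Subgroup G), b * a ≠ a * b := by
    by_contra hno
    push Not at hno
    exact ha' (mem_Zs.2 ⟨ha, hno⟩)
  have h1 : b * a * b⁻¹ = a * c := (h.comm a ha b hb).resolve_left fun e => hab (conj_eq_self_iff.1 e)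
  have h2 : (n * b * n⁻¹) * (n * a * n⁻¹) * (n * b * n⁻¹)⁻¹ = (n * a * n⁻¹) * (n * c * n⁻¹) := by
    rw [show (n * b * n⁻¹) * (n * a * n⁻¹) * (n * b * n⁻¹)⁻¹ = n * (b * a * b⁻¹) * n⁻¹ by group, h1]
    group
  rcases h.comm _ (conj_mem_of_mem_normalizer hn ha) _ (conj_mem_of_mem_normalizer hn hb) with e | e
  · rw [e, left_eq_mul, conj_eq_one_iff] at h2
    exact absurd h2 h.c_ne
  · exact (mul_left_cancel (h2.symm.trans e))

variable {a : G} (ha : a ∈ (S : Subgroup G)) (ha' : a ∉ Zs (S : Subgroup G))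
include ha ha'

theorem c_mem_cs : c ∈ Cs (S : Subgroup G) a := (zs_lt_cs ha ha').le h.c_mem

theorem noFour : NoFour (aut (Cs (S : Subgroup G) a)).range := by
  intro h4
  set A := Cs (S : Subgroup G) a with hA
  have hker : A.subgroupOf (normalizer (A : Set G)) ≤ (aut A).ker := fun x hx => by
    refine MulEquiv.ext fun y => Subtype.ext ?_
    rw [aut_apply]
    exact conj_eq_self_iff.2 (cs_comm h.card ha ha' (mem_subgroupOf.1 hx) y.2)
  have h1 : Nat.card A * 4 ∣ Nat.card (normalizer (A : Set G)) := by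
    rw [← Subgroup.card_mul_index (aut A).ker, index_ker]
    refine mul_dvd_mul ?_ h4
    have := Subgroup.card_dvd_of_le hker
    rwa [Nat.card_congr (subgroupOfEquivOfLe le_normalizer).toEquiv] at this
  have h2 : 2 * Nat.card (S : Subgroup G) ∣ Nat.card G := by
    refine Dvd.dvd.trans ?_ (h1.trans (card_subgroup_dvd_card _))
    rw [hA, card_cs h.card ha ha', h.card]
    exact ⟨1, by ring⟩
  rw [← (S : Subgroup G).card_mul_index, mul_comm 2] at h2
  exact S.not_dvd_index ((mul_dvd_mul_iff_left Nat.card_pos.ne').1 h2)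

theorem trv {s : G} (hs : s ∈ (S : Subgroup G)) (hsA : s ∉ Cs (S : Subgroup G) a) :
    Trv (aut (Cs (S : Subgroup G) a) ⟨s, le_normalizer_cs h.card ha ha' hs⟩)
      ⟨c, h.c_mem_cs ha ha'⟩ where
  sq := Subtype.ext h.c_sq
  ne := fun e => h.c_ne (congrArg Subtype.val e)
  fix := Subtype.ext (by
    rw [aut_apply]
    exact conj_eq_self_iff.2 ((mem_Zs.1 h.c_mem).2 s hs))
  mem x := by
    rcases h.comm x (cs_le x.2) s hs with e | e
    · exact Or.inl (Subtype.ext (by rw [aut_apply]; exact e))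
    · exact Or.inr (Subtype.ext (by rw [aut_apply]; exact e))
  moves := ⟨⟨a, mem_Cs.2 ⟨ha, rfl⟩⟩, Subtype.ext (by
    rw [aut_apply]
    exact (h.comm a ha s hs).resolve_left fun e => hsA (mem_Cs.2 ⟨hs, conj_eq_self_iff.1 e⟩))⟩

omit h ha' in
theorem cs_hc (hcard : Nat.card (S : Subgroup G) = 4 * Nat.card (Zs (S : Subgroup G)))
    (ha' : a ∉ Zs (S : Subgroup G)) : ∀ x y : Cs (S : Subgroup G) a, x * y = y * x :=
  fun x y => Subtype.ext (cs_comm hcard ha ha' x.2 y.2)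

theorem exists_outside : ∃ s ∈ (S : Subgroup G), s ∉ Cs (S : Subgroup G) a := by
  by_contra hno
  push Not at hno
  exact ha' (mem_Zs.2 ⟨ha, fun y hy => (mem_Cs.1 (hno y hy)).2⟩)

/-- An element of `N(A)` fixing `c` acts on `A` as an element of `N(S)`. -/
theorem exists_of_fix {m : G} (hm : m ∈ normalizer (Cs (S : Subgroup G) a : Set G))
    (hmc : m * c * m⁻¹ = c) : ∃ n ∈ normalizer ((S : Subgroup G) : Set G),
      ∀ x ∈ Cs (S : Subgroup G) a, n * x * n⁻¹ = m * x * m⁻¹ := by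
  haveI : Fact (Nat.Prime 2) := ⟨Nat.prime_two⟩
  set A := Cs (S : Subgroup G) a with hA
  obtain ⟨s, hs, hsA⟩ := h.exists_outside ha ha'
  set m' : normalizer (A : Set G) := ⟨m, hm⟩
  set s' : normalizer (A : Set G) := ⟨s, le_normalizer_cs h.card ha ha' hs⟩
  have hcomm := (h.trv ha ha' hs hsA).commute_of_fix (cs_hc ha h.card ha') (h.noFour ha ha')
    ⟨s', rfl⟩ ⟨m', rfl⟩ (Subtype.ext (by rw [aut_apply]; exact hmc))
  rw [← map_inv, ← map_mul, ← map_mul] at hcomm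
  set C := centralizer (A : Set G) with hC
  have hSC : (S : Subgroup G) ≤ normalizer (C : Set G) := fun y hy =>
    mem_normalizer_of_forall fun x hx => mem_centralizer_iff.2 fun z hz => by
      have h1 := mem_centralizer_iff.1 hx _
        (inv_conj_mem (le_normalizer_cs h.card ha ha' hy) hz)
      calc z * (y * x * y⁻¹) = y * ((y⁻¹ * z * y) * x) * y⁻¹ := by group
        _ = y * (x * (y⁻¹ * z * y)) * y⁻¹ := by rw [h1]
        _ = y * x * y⁻¹ * z := by group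
  have hk : s⁻¹ * (m * s * m⁻¹) ∈ C := mem_centralizer_iff.2 fun x hx => by
    have e := congrArg (fun φ : MulAut A => ((φ ⟨x, hx⟩ : A) : G)) hcomm
    simp only [aut_apply, Subgroup.coe_mul, Subgroup.coe_inv] at e
    have e' : (m * s * m⁻¹) * x * (m * s * m⁻¹)⁻¹ = s * x * s⁻¹ := e
    refine (conj_eq_self_iff.1 ?_).symm
    calc s⁻¹ * (m * s * m⁻¹) * x * (s⁻¹ * (m * s * m⁻¹))⁻¹
        = s⁻¹ * ((m * s * m⁻¹) * x * (m * s * m⁻¹)⁻¹) * s := by group
      _ = x := by rw [e']; group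
  have hconj : ∀ y ∈ (S : Subgroup G), m * y * m⁻¹ ∈ C ⊔ (S : Subgroup G) := by
    intro y hy
    have hms : m * s * m⁻¹ ∈ C ⊔ (S : Subgroup G) := by
      simpa using mul_mem (mem_sup_right (S := C) hs) (mem_sup_left (T := (S : Subgroup G)) hk)
    have hAle : A ≤ C ⊔ (S : Subgroup G) := (cs_le : A ≤ S).trans le_sup_right
    by_cases hyA : y ∈ A
    · exact hAle (conj_mem_of_mem_normalizer hm hyA)
    · have hy' : y * s ∈ A := (mul_mem_cs h.card ha ha' hy hs).2 (iff_of_false hyA hsA)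
      rw [show m * y * m⁻¹ = (m * (y * s) * m⁻¹) * (m * s * m⁻¹)⁻¹ by group]
      exact mul_mem (hAle (conj_mem_of_mem_normalizer hm hy')) (inv_mem hms)
  set T := (S : Subgroup G).map (MulAut.conj m).toMonoidHom with hT
  have hTle : T ≤ C ⊔ (S : Subgroup G) := by
    rintro _ ⟨y, hy, rfl⟩
    exact hconj y hy
  have hcT : Nat.card T = Nat.card (S : Subgroup G) :=
    card_map_of_injective (MulAut.conj m).injective
  set M := C ⊔ (S : Subgroup G)
  have hfac : (Nat.card M).factorization 2 = (Nat.card G).factorization 2 := by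
    refine le_antisymm ?_ ?_
    · exact (Nat.factorization_le_iff_dvd Nat.card_pos.ne' Nat.card_pos.ne').2
        (card_subgroup_dvd_card M) 2
    · refine (Nat.prime_two.pow_dvd_iff_le_factorization Nat.card_pos.ne').1 ?_
      rw [← S.card_eq_multiplicity]
      exact Subgroup.card_dvd_of_le le_sup_right
  have hcS : Nat.card ((S : Subgroup G).subgroupOf M) = 2 ^ (Nat.card M).factorization 2 := by
    rw [Nat.card_congr (subgroupOfEquivOfLe (le_sup_right : (S : Subgroup G) ≤ M)).toEquiv,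
      S.card_eq_multiplicity, hfac]
  have hcT' : Nat.card (T.subgroupOf M) = 2 ^ (Nat.card M).factorization 2 := by
    rw [Nat.card_congr (subgroupOfEquivOfLe hTle).toEquiv, hcT, S.card_eq_multiplicity, hfac]
  obtain ⟨k, hk⟩ := MulAction.exists_smul_eq M (Sylow.ofCard _ hcS) (Sylow.ofCard _ hcT')
  obtain ⟨x, hx, y, hy, hxy⟩ : ∃ x ∈ C, ∃ y ∈ (S : Subgroup G), x * y = (k : G) := by
    have : (k : G) ∈ ((C ⊔ (S : Subgroup G) : Subgroup G) : Set G) := k.2
    rw [Subgroup.coe_mul_of_right_le_normalizer_left C _ hSC] at this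
    obtain ⟨x, hx, y, hy, e⟩ := this
    exact ⟨x, hx, y, hy, e⟩
  have hTx : ∀ z ∈ (S : Subgroup G), x⁻¹ * (m * z * m⁻¹) * x ∈ (S : Subgroup G) := by
    intro z hz
    have h1 : (⟨m * z * m⁻¹, hTle ⟨z, hz, rfl⟩⟩ : M) ∈
        ((k • Sylow.ofCard _ hcS : Sylow 2 M) : Subgroup M) := by
      rw [hk, Sylow.coe_ofCard]
      exact mem_subgroupOf.2 ⟨z, hz, rfl⟩
    rw [Sylow.coe_subgroup_smul, Sylow.coe_ofCard] at h1
    obtain ⟨⟨w, hwM⟩, hw, e⟩ := h1
    have e' : (k : G) * w * (k : G)⁻¹ = m * z * m⁻¹ := congrArg Subtype.val e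
    rw [← hxy] at e'
    rw [← e', show x⁻¹ * (x * y * w * (x * y)⁻¹) * x = y * w * y⁻¹ by group]
    exact mul_mem (mul_mem hy (mem_subgroupOf.1 hw)) (inv_mem hy)
  refine ⟨x⁻¹ * m, mem_normalizer_of_forall fun z hz => ?_, fun z hz => ?_⟩
  · rw [show x⁻¹ * m * z * (x⁻¹ * m)⁻¹ = x⁻¹ * (m * z * m⁻¹) * x by group]
    exact hTx z hz
  · rw [show x⁻¹ * m * z * (x⁻¹ * m)⁻¹ = x⁻¹ * ((m * z * m⁻¹) * x) by group,
      mem_centralizer_iff.1 hx _ (conj_mem_of_mem_normalizer hm hz), inv_mul_cancel_left]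

/-- If some element of `N(A)` moves `c`: the orbit `{c, v, c v}` and the invariant complement. -/
theorem of_moved {n₀ : G} (hn₀ : n₀ ∈ normalizer (Cs (S : Subgroup G) a : Set G))
    (hmv : n₀ * c * n₀⁻¹ ≠ c) :
    ∃ (v : G) (W : Subgroup G), v ∈ Cs (S : Subgroup G) a ∧ v ∉ Zs (S : Subgroup G) ∧ v * v = 1 ∧
      (∀ m ∈ normalizer (Cs (S : Subgroup G) a : Set G),
        m * c * m⁻¹ = c ∨ m * c * m⁻¹ = v ∨ m * c * m⁻¹ = c * v) ∧
      (∀ m ∈ normalizer (Cs (S : Subgroup G) a : Set G),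
        m * v * m⁻¹ = c ∨ m * v * m⁻¹ = v ∨ m * v * m⁻¹ = c * v) ∧
      W ≤ Zs (S : Subgroup G) ∧ c ∉ W ∧ (∀ z ∈ Zs (S : Subgroup G), z ∈ W ∨ c * z ∈ W) ∧
      ∀ m ∈ normalizer (Cs (S : Subgroup G) a : Set G), ∀ w ∈ W, m * w * m⁻¹ ∈ W ∧
        ∃ n ∈ normalizer ((S : Subgroup G) : Set G), n * w * n⁻¹ = m * w * m⁻¹ := by
  set A := Cs (S : Subgroup G) a with hA
  obtain ⟨s, hs, hsA⟩ := h.exists_outside ha ha'
  have hsN := le_normalizer_cs h.card ha ha' hs
  set α := aut A ⟨s, hsN⟩ with hαdef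
  set ν := aut A ⟨n₀, hn₀⟩ with hνdef
  set cA : A := ⟨c, h.c_mem_cs ha ha'⟩ with hcA
  set v := n₀ * c * n₀⁻¹ with hv
  have hνc : ((ν cA : A) : G) = v := rfl
  obtain ⟨h1, h2, horb, hinv⟩ := (h.trv ha ha' hs hsA).moved (cs_hc ha h.card ha') (h.noFour ha ha')
    (n := ν) ⟨_, rfl⟩ ⟨_, rfl⟩ (fun e => hmv (congrArg Subtype.val e))
  have hsv : s * v * s⁻¹ = v * c := congrArg Subtype.val h1
  set t := n₀ * s * n₀⁻¹ with ht
  have htN : t ∈ normalizer (A : Set G) := mul_mem (mul_mem hn₀ hsN) (inv_mem hn₀)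
  have hβ : ν * α * ν⁻¹ = aut A ⟨t, htN⟩ := by
    rw [hνdef, hαdef, ← map_inv, ← map_mul, ← map_mul]; rfl
  rw [hβ] at h2 hinv
  have htc : t * c * t⁻¹ = c * v := congrArg Subtype.val h2
  have hvA : v ∈ A := conj_mem_of_mem_normalizer hn₀ (h.c_mem_cs ha ha')
  have hvZ : v ∉ Zs (S : Subgroup G) := fun hz => h.c_ne (left_eq_mul.1
    ((conj_eq_self_iff.2 ((mem_Zs.1 hz).2 s hs)).symm.trans hsv))
  have hv2 : v * v = 1 := by
    rw [hv, show n₀ * c * n₀⁻¹ * (n₀ * c * n₀⁻¹) = n₀ * (c * c) * n₀⁻¹ by group, h.c_sq, mul_one,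
      mul_inv_cancel]
  have horb' : ∀ m ∈ normalizer (A : Set G),
      m * c * m⁻¹ = c ∨ m * c * m⁻¹ = v ∨ m * c * m⁻¹ = c * v := fun m hm => by
    rcases horb (aut A ⟨m, hm⟩) ⟨_, rfl⟩ with e | e | e <;> have e' := congrArg Subtype.val e
    exacts [Or.inl e', Or.inr (Or.inl e'), Or.inr (Or.inr e')]
  -- fixed points
  have hfixs : ∀ x ∈ A, (s * x * s⁻¹ = x ↔ x ∈ Zs (S : Subgroup G)) := fun x hx => by
    refine ⟨fun e => ?_, fun hz => conj_eq_self_iff.2 ((mem_Zs.1 hz).2 s hs)⟩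
    by_contra hxZ
    exact hsA (by rw [← cs_eq h.card ha ha' hx hxZ]; exact mem_Cs.2 ⟨hs, conj_eq_self_iff.1 e⟩)
  set W := Zs (S : Subgroup G) ⊓ (Zs (S : Subgroup G)).map (MulAut.conj n₀).toMonoidHom with hW
  have hmemW : ∀ {x}, x ∈ A → (x ∈ W ↔ s * x * s⁻¹ = x ∧ t * x * t⁻¹ = x) := by
    intro x hx
    have hx' : n₀⁻¹ * x * n₀ ∈ A := inv_conj_mem hn₀ hx
    have e : t * x * t⁻¹ = n₀ * (s * (n₀⁻¹ * x * n₀) * s⁻¹) * n₀⁻¹ := by rw [ht]; group
    constructor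
    · rintro ⟨hz, z, hz', rfl⟩
      refine ⟨(hfixs _ hx).2 hz, ?_⟩
      rw [e]
      show n₀ * (s * (n₀⁻¹ * (n₀ * z * n₀⁻¹) * n₀) * s⁻¹) * n₀⁻¹ = n₀ * z * n₀⁻¹
      rw [show n₀⁻¹ * (n₀ * z * n₀⁻¹) * n₀ = z by group, (mem_Zs.1 hz').2 s hs, mul_inv_cancel_right]
    · rintro ⟨h3, h4⟩
      refine ⟨(hfixs x hx).1 h3, n₀⁻¹ * x * n₀, (hfixs _ hx').1 ?_, ?_⟩
      · rw [e] at h4
        calc s * (n₀⁻¹ * x * n₀) * s⁻¹
            = n₀⁻¹ * (n₀ * (s * (n₀⁻¹ * x * n₀) * s⁻¹) * n₀⁻¹) * n₀ := by group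
          _ = n₀⁻¹ * x * n₀ := by rw [h4]
      · show n₀ * (n₀⁻¹ * x * n₀) * n₀⁻¹ = x
        group
  have hWA : W ≤ A := inf_le_left.trans (zs_lt_cs ha ha').le
  have hWinv : ∀ m ∈ normalizer (A : Set G), ∀ w ∈ W, m * w * m⁻¹ ∈ W := by
    intro m hm w hw
    obtain ⟨e1, e2⟩ := (hmemW (hWA hw)).1 hw
    obtain ⟨e3, e4⟩ := hinv (aut A ⟨m, hm⟩) ⟨_, rfl⟩ ⟨w, hWA hw⟩ (Subtype.ext e1) (Subtype.ext e2)
    exact (hmemW (conj_mem_of_mem_normalizer hm (hWA hw))).2
      ⟨congrArg Subtype.val e3, congrArg Subtype.val e4⟩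
  have hcv : c * v = v * c :=
    cs_comm h.card ha ha' (h.c_mem_cs ha ha') hvA
  have hmv' : ∀ m ∈ normalizer (A : Set G),
      m * v * m⁻¹ = c ∨ m * v * m⁻¹ = v ∨ m * v * m⁻¹ = c * v := fun m hm => by
    have := horb' (m * n₀) (mul_mem hm hn₀)
    rwa [show m * n₀ * c * (m * n₀)⁻¹ = m * v * m⁻¹ by rw [hv]; group] at this
  refine ⟨v, W, hvA, hvZ, hv2, horb', hmv', inf_le_left, fun hcW => ?_, fun z hz => ?_,
    fun m hm w hw => ⟨hWinv m hm w hw, ?_⟩⟩
  · have := ((hmemW (h.c_mem_cs ha ha')).1 hcW).2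
    rw [htc, mul_eq_left] at this
    exact hvZ (this ▸ one_mem _)
  · by_cases hzW : z ∈ W
    · exact Or.inl hzW
    right
    have hzA := (zs_lt_cs ha ha').le hz
    have hsz : s * z * s⁻¹ = z := conj_eq_self_iff.2 ((mem_Zs.1 hz).2 s hs)
    refine (hmemW (mul_mem (h.c_mem_cs ha ha') hzA)).2 ⟨conj_eq_self_iff.2
      ((mem_Zs.1 (mul_mem h.c_mem hz)).2 s hs), ?_⟩
    -- `t` moves both `c` and `z` by `v`
    have htz : t * z * t⁻¹ = z * v := by
      have hzA' : n₀⁻¹ * z * n₀ ∈ A := inv_conj_mem hn₀ hzA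
      have e : t * z * t⁻¹ = n₀ * (s * (n₀⁻¹ * z * n₀) * s⁻¹) * n₀⁻¹ := by rw [ht]; group
      rcases h.comm _ (cs_le hzA') s hs with e' | e' <;> rw [e'] at e
      · exact absurd ((hmemW hzA).2 ⟨hsz, by rw [e]; group⟩) hzW
      · rw [e, hv]; group
    calc t * (c * z) * t⁻¹ = (t * c * t⁻¹) * (t * z * t⁻¹) := by group
      _ = c * (v * z) * v := by rw [htc, htz]; group
      _ = c * z := by
          rw [cs_comm h.card ha ha' hvA hzA, ← mul_assoc c z v, mul_assoc (c * z), hv2, mul_one]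
  · -- correct `m` to fix `c`
    obtain ⟨ρ, hρN, hρc, hρw⟩ : ∃ ρ ∈ normalizer (A : Set G), ρ * c * ρ⁻¹ = m * c * m⁻¹ ∧
        ∀ x ∈ W, ρ * x * ρ⁻¹ = x := by
      rcases horb' m hm with e | e | e
      · exact ⟨1, one_mem _, by rw [e]; group, fun x _ => by group⟩
      · refine ⟨s * t, mul_mem hsN htN, ?_, fun x hx => ?_⟩
        · calc s * t * c * (s * t)⁻¹ = (s * c * s⁻¹) * (s * v * s⁻¹) := by
                rw [show s * t * c * (s * t)⁻¹ = s * (t * c * t⁻¹) * s⁻¹ by group, htc]; group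
            _ = v := by
                rw [conj_eq_self_iff.2 ((mem_Zs.1 h.c_mem).2 s hs), hsv, ← hcv, ← mul_assoc,
                  h.c_sq, one_mul]
            _ = m * c * m⁻¹ := e.symm
        · obtain ⟨e1, e2⟩ := (hmemW (hWA hx)).1 hx
          rw [show s * t * x * (s * t)⁻¹ = s * (t * x * t⁻¹) * s⁻¹ by group, e2, e1]
      · exact ⟨t, htN, htc.trans e.symm, fun x hx => ((hmemW (hWA hx)).1 hx).2⟩
    obtain ⟨n, hn, hnact⟩ := h.exists_of_fix ha ha' (m := ρ⁻¹ * m) (mul_mem (inv_mem hρN) hm) (by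
      rw [show ρ⁻¹ * m * c * (ρ⁻¹ * m)⁻¹ = ρ⁻¹ * (m * c * m⁻¹) * ρ by group, ← hρc]
      group)
    refine ⟨n, hn, ?_⟩
    rw [hnact w (hWA hw)]
    calc ρ⁻¹ * m * w * (ρ⁻¹ * m)⁻¹ = ρ⁻¹ * (ρ * (m * w * m⁻¹) * ρ⁻¹) * ρ := by
          rw [hρw _ (hWinv m hm w hw)]; group
      _ = m * w * m⁻¹ := by group

end Quad

end Cfsg.Agent.IndexFour
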