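import Mathlib.GroupTheory.Index
import Mathlib.GroupTheory.OrderOfElement
import Mathlib.GroupTheory.PGroup

/-!
# Transvections in an automorphism group of an abelian group with no subgroup of order four

`Trv α e`: `α` multiplies some elements by the involution `e` and fixes the others.  If the group `X`
contains no subgroup of order 4, the centre determines `α`; two transvections with different centres
`c`, `e` generate an `S₃` containing every transvection of `X`.
-/

set_option autoImplicit false
set_option linter.unusedSectionVars false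

namespace Cfsg.Agent.IndexFour

variable {A : Type*} [Group A]

/-- A transvection with centre `e`. -/
structure Trv (α : MulAut A) (e : A) : Prop where
  sq : e * e = 1
  ne : e ≠ 1
  fix : α e = e
  mem : ∀ a, α a = a ∨ α a = a * e
  moves : ∃ a, α a = a * e

/-- No subgroup of order four. -/
def NoFour (X : Subgroup (MulAut A)) : Prop := ¬ 4 ∣ Nat.card X

namespace Trv

variable {α β : MulAut A} {c e f : A}

theorem apply_apply (h : Trv α e) (a : A) : α (α a) = a := by
  rcases h.mem a with ha | ha
  · rw [ha, ha]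
  · rw [ha, map_mul, ha, h.fix, mul_assoc, h.sq, mul_one]

theorem mul_self (h : Trv α e) : α * α = 1 := MulEquiv.ext fun a => h.apply_apply a

theorem ne_one (h : Trv α e) : α ≠ 1 := by
  rintro rfl
  obtain ⟨a, ha⟩ := h.moves
  exact h.ne (left_eq_mul.1 ha)

theorem centre_unique (h : Trv α e) (h' : Trv α f) : e = f := by
  obtain ⟨a, ha⟩ := h.moves
  rcases h'.mem a with h1 | h1
  · exact absurd (left_eq_mul.1 (h1.symm.trans ha)) h.ne
  · exact mul_left_cancel (ha.symm.trans h1)

theorem conj (h : Trv α e) (φ : MulAut A) : Trv (φ * α * φ⁻¹) (φ e) where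
  sq := by rw [← map_mul, h.sq, map_one]
  ne := fun h1 => h.ne (φ.injective (h1.trans (map_one φ).symm))
  fix := by simp [h.fix]
  mem a := by
    rcases h.mem (φ⁻¹ a) with h1 | h1
    · exact Or.inl (by simp only [MulAut.mul_apply, h1, MulAut.apply_inv_self])
    · exact Or.inr (by simp only [MulAut.mul_apply, h1, map_mul, MulAut.apply_inv_self])
  moves := by
    obtain ⟨a, ha⟩ := h.moves
    exact ⟨φ a, by simp [ha]⟩

end Trv

section Main

variable [Finite A] (hc : ∀ a b : A, a * b = b * a) {X : Subgroup (MulAut A)} (hX : NoFour X)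
include hc hX

/-- **P1**: a transvection fixing the centre of another one is equal to it. -/
theorem Trv.eq_of_fix {α β : MulAut A} {e f : A} (hα : Trv α e) (hβ : Trv β f) (hαX : α ∈ X)
    (hβX : β ∈ X) (hαf : α f = f) : α = β := by
  -- the span of the two centres
  set E : A → Prop := fun w => w = 1 ∨ w = e ∨ w = f ∨ w = e * f with hE
  have hEmul : ∀ {x y}, E x → E y → E (x * y) := by
    have h1 : e * (e * f) = f := by rw [← mul_assoc, hα.sq, one_mul]
    have h2 : f * (e * f) = e := by rw [hc e f, ← mul_assoc, hβ.sq, one_mul]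
    have h3 : e * f * (e * f) = 1 := by rw [mul_assoc, h2, hα.sq]
    rintro x y (rfl | rfl | rfl | rfl) (rfl | rfl | rfl | rfl) <;>
      first
        | (simp only [hE, one_mul, mul_one, hα.sq, hβ.sq, h1, h2, h3, true_or, or_true]; done)
        | (rw [hc]; simp only [hE, one_mul, mul_one, hα.sq, hβ.sq, h1, h2, h3, true_or, or_true])
  have hEsq : ∀ {x}, E x → x * x = 1 := by
    rintro x (rfl | rfl | rfl | rfl)
    · exact one_mul _
    · exact hα.sq
    · exact hβ.sq
    · rw [mul_assoc, ← mul_assoc f, hc f e, mul_assoc e f f, hβ.sq, mul_one, hα.sq]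
  set u := α * β with hu
  have huf : u f = f := by rw [hu, MulAut.mul_apply, hβ.fix, hαf]
  have hue : E (u e * e) ∧ u (u e) = e := by
    rcases hβ.mem e with h | h
    · have : u e = e := by rw [hu, MulAut.mul_apply, h, hα.fix]
      exact ⟨Or.inl (by rw [this, hα.sq]), by rw [this, this]⟩
    · have h1 : u e = e * f := by rw [hu, MulAut.mul_apply, h, map_mul, hα.fix, hαf]
      refine ⟨Or.inr (Or.inr (Or.inl ?_)), by rw [h1, map_mul, h1, huf, mul_assoc, hβ.sq, mul_one]⟩
      rw [h1, hc e f, mul_assoc, hα.sq, mul_one]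
  have huu : ∀ {x}, E x → u (u x) = x := by
    rintro x (rfl | rfl | rfl | rfl)
    · simp
    · exact hue.2
    · rw [huf, huf]
    · rw [map_mul, map_mul, hue.2, huf, huf]
  have hshift : ∀ a, ∃ w, E w ∧ u a = a * w := by
    intro a
    rcases hβ.mem a with h | h
    · rcases hα.mem a with h' | h'
      · exact ⟨1, Or.inl rfl, by rw [hu, MulAut.mul_apply, h, h', mul_one]⟩
      · exact ⟨e, Or.inr (Or.inl rfl), by rw [hu, MulAut.mul_apply, h, h']⟩
    · rcases hα.mem a with h' | h'
      · exact ⟨f, Or.inr (Or.inr (Or.inl rfl)), by rw [hu, MulAut.mul_apply, h, map_mul, h', hαf]⟩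
      · exact ⟨e * f, Or.inr (Or.inr (Or.inr rfl)),
          by rw [hu, MulAut.mul_apply, h, map_mul, h', hαf, mul_assoc]⟩
  have hEu : ∀ {x}, E x → E (u x) := by
    intro x hx
    obtain ⟨w, hw, hxw⟩ := hshift x
    exact hxw ▸ hEmul hx hw
  have hu4 : u ^ 4 = 1 := by
    refine MulEquiv.ext fun a => ?_
    obtain ⟨w, hw, haw⟩ := hshift a
    have h2 : u (u a) = a * (w * u w) := by rw [haw, map_mul, haw, mul_assoc]
    have hw' : E (w * u w) := hEmul hw (hEu hw)
    calc (u ^ 4) a = u (u (u (u a))) := by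
          simp only [pow_succ, pow_zero, one_mul, MulAut.mul_apply]
      _ = u (u (a * (w * u w))) := by rw [h2]
      _ = u (u a) * u (u (w * u w)) := by rw [map_mul, map_mul]
      _ = a * ((w * u w) * (w * u w)) := by rw [h2, huu hw', mul_assoc]
      _ = a := by rw [hEsq hw', mul_one]
  have huX : u ∈ X := mul_mem hαX hβX
  have hord : orderOf u ∣ 4 := orderOf_dvd_of_pow_eq_one hu4
  have hu2 : u ^ 2 = 1 := by
    obtain ⟨k, hk, hk'⟩ := (Nat.dvd_prime_pow Nat.prime_two (m := 2)).1 hord
    interval_cases k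
    · have h1 : u = 1 := orderOf_eq_one_iff.1 (by simpa using hk')
      rw [h1, one_pow]
    · rw [show (2 : ℕ) = orderOf u by simpa using hk'.symm]
      exact pow_orderOf_eq_one u
    · refine absurd ?_ hX
      have : orderOf u ∣ Nat.card X := by
        rw [← Nat.card_zpowers]
        exact Subgroup.card_dvd_of_le (Subgroup.zpowers_le.2 huX)
      rw [hk'] at this
      simpa using this
  by_contra hne
  have hαi : α⁻¹ = α := inv_eq_of_mul_eq_one_right hα.mul_self
  have hβi : β⁻¹ = β := inv_eq_of_mul_eq_one_right hβ.mul_self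
  have hcomm : α * β = β * α := by
    have h1 : α * β = (α * β)⁻¹ := eq_inv_of_mul_eq_one_left (by rw [← pow_two]; exact hu2)
    rwa [mul_inv_rev, hαi, hβi] at h1
  let V : Subgroup (MulAut A) :=
    { carrier := {x | x = 1 ∨ x = α ∨ x = β ∨ x = α * β}
      one_mem' := Or.inl rfl
      inv_mem' := by
        rintro x (rfl | rfl | rfl | rfl)
        · exact Or.inl inv_one
        · exact Or.inr (Or.inl hαi)
        · exact Or.inr (Or.inr (Or.inl hβi))
        · exact Or.inr (Or.inr (Or.inr (by rw [mul_inv_rev, hαi, hβi, hcomm])))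
      mul_mem' := by
        have h1 : α * (α * β) = β := by rw [← mul_assoc, hα.mul_self, one_mul]
        have h2 : β * (α * β) = α := by rw [hcomm, ← mul_assoc, hβ.mul_self, one_mul]
        have h3 : α * β * α = β := by rw [hcomm, mul_assoc, hα.mul_self, mul_one]
        have h4 : α * β * β = α := by rw [mul_assoc, hβ.mul_self, mul_one]
        have h5 : α * β * (α * β) = 1 := by rw [← pow_two]; exact hu2
        rintro x y (rfl | rfl | rfl | rfl) (rfl | rfl | rfl | rfl) <;>
          simp only [Set.mem_ofPred_eq, one_mul, mul_one, hα.mul_self, hβ.mul_self, h1, h2, h3, h4,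
            h5, ← hcomm, true_or, or_true] }
  have hVX : V ≤ X := by
    rintro x (rfl | rfl | rfl | rfl)
    exacts [one_mem _, hαX, hβX, huX]
  have hαβ1 : α * β ≠ 1 := fun h => hne (by rw [← inv_eq_of_mul_eq_one_right h, hαi])
  have hV4 : Nat.card V = 4 := by
    have : (V : Set (MulAut A)) = {1, α, β, α * β} := rfl
    rw [← SetLike.coe_sort_coe, this, Nat.card_coe_set_eq, Set.ncard_insert_of_notMem,
      Set.ncard_insert_of_notMem, Set.ncard_pair]
    · exact fun h => hα.ne_one (right_eq_mul.1 h)
    · simp only [Set.mem_insert_iff, Set.mem_singleton_iff, not_or]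
      exact ⟨hne, fun h => hβ.ne_one (left_eq_mul.1 h)⟩
    · simp only [Set.mem_insert_iff, Set.mem_singleton_iff, not_or]
      exact ⟨fun h => hα.ne_one h.symm, fun h => hβ.ne_one h.symm, fun h => hαβ1 h.symm⟩
  exact hX (hV4 ▸ Subgroup.card_dvd_of_le hVX)

theorem Trv.eq_of_centre {α β : MulAut A} {e : A} (hα : Trv α e) (hβ : Trv β e) (hαX : α ∈ X)
    (hβX : β ∈ X) : α = β := hα.eq_of_fix hc hX hβ hαX hβX hα.fix

/-- An element fixing the centre commutes with the transvection. -/
theorem Trv.commute_of_fix {α m : MulAut A} {c : A} (hα : Trv α c) (hαX : α ∈ X) (hmX : m ∈ X)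
    (hm : m c = c) : m * α * m⁻¹ = α := by
  have h := hα.conj m
  rw [hm] at h
  exact h.eq_of_centre hc hX hα (mul_mem (mul_mem hmX hαX) (inv_mem hmX)) hαX

/-- A transvection and an element moving its centre: the orbit of the centre, the elements
moving it, and the invariance of the common fixed points. -/
theorem Trv.moved {α n : MulAut A} {c : A} (hα : Trv α c) (hαX : α ∈ X) (hnX : n ∈ X) (hn : n c ≠ c) :
    α (n c) = n c * c ∧ (n * α * n⁻¹) c = c * n c ∧
      (∀ m ∈ X, m c = c ∨ m c = n c ∨ m c = c * n c) ∧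
      ∀ m ∈ X, ∀ w, α w = w → (n * α * n⁻¹) w = w →
        α (m w) = m w ∧ (n * α * n⁻¹) (m w) = m w := by
  set β := n * α * n⁻¹ with hβdef
  set e := n c with he
  have hβ : Trv β e := hα.conj n
  have hβX : β ∈ X := mul_mem (mul_mem hnX hαX) (inv_mem hnX)
  have h1 : α e = e * c := (hα.mem e).resolve_left fun h => hn <| by
    have h1 := hα.eq_of_fix hc hX hβ hαX hβX h
    exact (Trv.centre_unique hβ (h1 ▸ hα)).symm ▸ rfl
  have h2 : β c = c * e := (hβ.mem c).resolve_left fun h => hn <| by
    have h1 := hβ.eq_of_fix hc hX hα hβX hαX h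
    exact Trv.centre_unique hβ (h1 ▸ hα)
  set γ := α * β * α⁻¹ with hγdef
  have hαi : α⁻¹ = α := inv_eq_of_mul_eq_one_right hα.mul_self
  have hγ : Trv γ (c * e) := by
    have := hβ.conj α
    rwa [h1, hc e c] at this
  have hγX : γ ∈ X := mul_mem (mul_mem hαX hβX) (inv_mem hαX)
  have key : ∀ {δ f}, Trv δ f → δ ∈ X → δ = α ∨ δ = β ∨ δ = γ := by
    intro δ f hδ hδX
    rcases hα.mem f with h | hαf
    · exact Or.inl (hα.eq_of_fix hc hX hδ hαX hδX h).symm
    rcases hβ.mem f with h | hβf
    · exact Or.inr (Or.inl (hβ.eq_of_fix hc hX hδ hβX hδX h).symm)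
    refine Or.inr (Or.inr (hγ.eq_of_fix hc hX hδ hγX hδX ?_).symm)
    calc γ f = α (β (α f)) := by rw [hγdef, hαi]; rfl
      _ = α (f * e * (c * e)) := by rw [hαf, map_mul, hβf, h2]
      _ = α (f * c) := by
        congr 1
        rw [hc c e, ← mul_assoc, mul_assoc f e e, hβ.sq, mul_one]
      _ = f := by rw [map_mul, hαf, hα.fix, mul_assoc, hα.sq, mul_one]
  refine ⟨h1, h2, fun m hmX => ?_, fun m hmX w hwα hwβ => ?_⟩
  · have hδ := hα.conj m
    rcases key hδ (mul_mem (mul_mem hmX hαX) (inv_mem hmX)) with h | h | h <;> rw [h] at hδ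
    · exact Or.inl (hδ.centre_unique hα)
    · exact Or.inr (Or.inl (hδ.centre_unique hβ))
    · exact Or.inr (Or.inr (hδ.centre_unique hγ))
  · have fixes : ∀ {δ f}, Trv δ f → δ ∈ X → δ w = w := by
      intro δ f hδ hδX
      rcases key hδ hδX with rfl | rfl | rfl
      · exact hwα
      · exact hwβ
      · rw [hγdef, hαi]
        show α (β (α w)) = w
        rw [hwα, hwβ, hwα]
    have hm' := inv_mem hmX
    have step : ∀ {δ f}, Trv δ f → δ ∈ X → δ (m w) = m w := by
      intro δ f hδ hδX
      have h := fixes (hδ.conj m⁻¹) (mul_mem (mul_mem hm' hδX) (inv_mem hm'))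
      rw [inv_inv] at h
      have h' := congrArg m h
      simpa using h'
    exact ⟨step hα hαX, step hβ hβX⟩

end Main

end Cfsg.Agent.IndexFour
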